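import Cfsg.Agent.H440.PU.Wact

/-!
# S5258 (PU-L1a): the fixed space of the opposite Sylow subgroup (helper440)
-/

set_option autoImplicit false

namespace Cfsg.Agent.H440.PU

open Cfsg Cfsg.FusionSystem Cfsg.Agent.H756.PU

universe u

variable {K : Type u} [Field K] [StarRing K] {p n : ℕ}

section

variable (h : HypK K p n)
include h

/-- the elements `t / t*` are many -/
theorem card_quot_star : p ^ n + 1 ≤ Nat.card {x : K // ∃ t : K, t ≠ 0 ∧ x = t * (star t)⁻¹} := by
  classical
  have := h.fin
  have hq := one_lt_q h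
  let f : Kˣ →* Kˣ :=
    { toFun := fun t => t * (Units.map (starRingEnd K : K →* K) t)⁻¹
      map_one' := by simp
      map_mul' := fun s t => by
        rw [map_mul, mul_inv]
        exact mul_mul_mul_comm _ _ _ _ }
  have hf : ∀ t : Kˣ, ((f t : Kˣ) : K) = t * (star (t : K))⁻¹ := by
    intro t
    show ((t * (Units.map (starRingEnd K : K →* K) t)⁻¹ : Kˣ) : K) = _
    rw [Units.val_mul, Units.val_inv_eq_inv_val]
    rfl
  have h1 : Nat.card f.ker ≤ p ^ n - 1 := by
    have h2 : Nat.card f.ker ≤ Nat.card {x : Fx K // x ≠ 0} := by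
      refine Nat.card_le_card_of_injective (fun t => ⟨⟨((t : Kˣ) : K), ?_⟩, ?_⟩) ?_
      · have h3 := congrArg Units.val (MonoidHom.mem_ker.1 t.2)
        rw [hf, Units.val_one] at h3
        have h4 : star ((t : Kˣ) : K) ≠ 0 := star_ne_zero.2 (Units.ne_zero _)
        have h5 := (mul_inv_eq_one₀ h4).1 h3
        exact h5.symm
      · intro h3
        exact Units.ne_zero (t : Kˣ) (congrArg Subtype.val h3)
      · intro s t hst
        apply Subtype.ext
        apply Units.ext
        have h3 := congrArg (fun x : {x : Fx K // x ≠ 0} => ((x : Fx K) : K)) hst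
        exact h3
    refine h2.trans ?_
    have : Fintype (Fx K) := Fintype.ofFinite _
    rw [Nat.card_eq_fintype_card, Fintype.card_subtype_compl, Fintype.card_subtype_eq, ← Nat.card_eq_fintype_card,
      card_Fx h]
  have h2 : Nat.card f.ker * Nat.card f.range = (p ^ n + 1) * (p ^ n - 1) := by
    rw [← Nat.card_congr (QuotientGroup.quotientKerEquivRange f).toEquiv, mul_comm,
      ← Subgroup.card_eq_card_quotient_mul_card_subgroup, Nat.card_units, h.card, ← Nat.sq_sub_sq, one_pow]
  have h3 : p ^ n + 1 ≤ Nat.card f.range := by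
    have h4 : (p ^ n - 1) * (p ^ n + 1) ≤ (p ^ n - 1) * Nat.card f.range := by
      rw [mul_comm (p ^ n - 1) (p ^ n + 1), ← h2]
      exact Nat.mul_le_mul_right _ h1
    exact Nat.le_of_mul_le_mul_left h4 (by omega)
  refine h3.trans (Nat.card_le_card_of_injective (fun x => ⟨((x : Kˣ) : K), ?_⟩) ?_)
  · obtain ⟨t, ht⟩ := x.2
    exact ⟨t, t.ne_zero, by rw [← hf, ht]⟩
  · intro x y hxy
    exact Subtype.ext (Units.ext (Subtype.mk.inj hxy))

/-- an additive subgroup invariant under all `t / t*` is trivial -/
theorem inv_sub (J : AddSubgroup K) (hJ : ∀ t : K, t ≠ 0 → ∀ x ∈ J, t * (star t)⁻¹ * x ∈ J) : J = ⊥ ∨ J = ⊤ := by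
  classical
  have := h.fin
  by_cases h0 : J = ⊥
  · exact Or.inl h0
  right
  obtain ⟨⟨j, hj⟩, hj'⟩ := AddSubgroup.ne_bot_iff_exists_ne_zero.1 h0
  have hj0 : j ≠ 0 := fun hj0 => hj' (Subtype.ext hj0)
  -- the stabilizer
  let R : Subfield K :=
    { carrier := {x | ∀ y ∈ J, x * y ∈ J}
      mul_mem' := fun {a b} ha hb y hy => by rw [mul_assoc]; exact ha _ (hb _ hy)
      one_mem' := fun y hy => by rw [one_mul]; exact hy
      add_mem' := fun {a b} ha hb y hy => by rw [add_mul]; exact J.add_mem (ha _ hy) (hb _ hy)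
      zero_mem' := fun y hy => by rw [zero_mul]; exact J.zero_mem
      neg_mem' := fun {a} ha y hy => by rw [neg_mul]; exact J.neg_mem (ha _ hy)
      inv_mem' := fun a ha y hy => by
        by_cases ha0 : a = 0
        · rw [ha0, inv_zero, zero_mul]; exact J.zero_mem
        have hinj : Function.Injective (fun x : J => (⟨a * x, ha _ x.2⟩ : J)) := by
          intro x x' hx
          exact Subtype.ext (mul_left_cancel₀ ha0 (Subtype.mk.inj hx))
        obtain ⟨x, hx⟩ := (Finite.injective_iff_surjective.1 hinj) ⟨y, hy⟩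
        have h1 : a * x = y := Subtype.mk.inj hx
        rw [← h1, inv_mul_cancel_left₀ ha0]
        exact x.2 }
  have hR : ∀ x : K, x ∈ R ↔ ∀ y ∈ J, x * y ∈ J := fun x => Iff.rfl
  have hcard : p ^ n + 1 ≤ Nat.card R := by
    refine (card_quot_star h).trans (Nat.card_le_card_of_injective (fun x => ⟨x.1, ?_⟩) ?_)
    · obtain ⟨t, ht, hx⟩ := x.2
      rw [hR, hx]
      exact hJ t ht
    · intro x y hxy
      exact Subtype.ext (Subtype.mk.inj hxy)
  have h1 : Nat.card K = Nat.card R ^ Module.finrank R K := by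
    have : Fintype K := Fintype.ofFinite K
    have : Fintype R := Fintype.ofFinite R
    rw [Nat.card_eq_fintype_card, Nat.card_eq_fintype_card]
    exact Module.card_eq_pow_finrank
  rw [h.card] at h1
  have hq := one_lt_q h
  have hk : Module.finrank R K = 1 := by
    have hk0 : Module.finrank R K ≠ 0 := by
      intro hk
      rw [hk, pow_zero] at h1
      have : 1 < (p ^ n) ^ 2 := Nat.one_lt_pow (by norm_num) hq
      omega
    by_contra hk1
    have h2 : (p ^ n + 1) ^ 2 ≤ Nat.card R ^ Module.finrank R K := by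
      calc (p ^ n + 1) ^ 2 ≤ Nat.card R ^ 2 := Nat.pow_le_pow_left hcard 2
        _ ≤ _ := Nat.pow_le_pow_right (by omega) (by omega)
    rw [← h1] at h2
    have h3 : (p ^ n) ^ 2 < (p ^ n + 1) ^ 2 := Nat.pow_lt_pow_left (by omega) (by norm_num)
    omega
  rw [hk, pow_one, ← h.card] at h1
  have hall : ∀ x : K, x ∈ R := by
    intro x
    have : Function.Surjective (Subtype.val : R → K) := by
      have hb := (Nat.bijective_iff_injective_and_card (Subtype.val : R → K)).2 ⟨Subtype.val_injective, h1.symm⟩
      exact hb.2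
    obtain ⟨y, hy⟩ := this x
    rw [← hy]
    exact y.2
  rw [AddSubgroup.eq_top_iff']
  intro x
  have := (hR (x * j⁻¹)).1 (hall _) j hj
  rwa [inv_mul_cancel_right₀ hj0] at this

/-- **The fixed space of the opposite Sylow subgroup** -/
theorem uf_eq (h3q : 3 ≤ p ^ n) (Uf : Set (K × K × K)) (hadd : ∀ w ∈ Uf, ∀ w' ∈ Uf, w + w' ∈ Uf)
    (hneg : ∀ w ∈ Uf, -w ∈ Uf) (hcard : Nat.card Uf = Nat.card K)
    (hI : ∀ w ∈ Uf, w.1 = 0 → w.2.1 = 0) (hU0 : ¬ ∀ b : K, ((0, 0, b) : K × K × K) ∈ Uf)
    (hiso : ∀ w ∈ Uf, ∀ w' ∈ Uf, om w w' = 0)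
    (hD : ∀ t : K, t ≠ 0 → ∀ w ∈ Uf, ((t * t * w.1, t * w.2.1, t * (star t)⁻¹ * w.2.2) : K × K × K) ∈ Uf)
    (h3 : p ^ n = 3 → ∃ x1 x2 : K, x1 * star x1 = 1 ∧ x2 * star x2 = -1 ∧
      ∀ w ∈ Uf, ((x1 * x2⁻¹ * w.1, x1 * w.2.1, x1 * star x2 * w.2.2) : K × K × K) ∈ Uf) :
    ∀ w : K × K × K, w ∈ Uf ↔ w.2 = 0 := by
  classical
  have := h.fin
  have hKpos : 0 < Nat.card K := Nat.card_pos
  have hne : ∃ w, w ∈ Uf := by
    have : 0 < Nat.card Uf := by rw [hcard]; exact hKpos
    obtain ⟨w⟩ := (Nat.card_pos_iff.1 this).1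
    exact ⟨w.1, w.2⟩
  obtain ⟨w0, hw0⟩ := hne
  have hzero : (0 : K × K × K) ∈ Uf := by
    have := hadd w0 hw0 (-w0) (hneg w0 hw0)
    rwa [add_neg_cancel] at this
  have hsub : ∀ w ∈ Uf, ∀ w' ∈ Uf, w - w' ∈ Uf := fun w hw w' hw' => by
    rw [sub_eq_add_neg]
    exact hadd w hw _ (hneg w' hw')
  -- `J = 0`
  let J : AddSubgroup K :=
    { carrier := {b | ((0, 0, b) : K × K × K) ∈ Uf}
      zero_mem' := hzero
      add_mem' := fun {a b} ha hb => by
        have := hadd _ ha _ hb
        simpa using this
      neg_mem' := fun {a} ha => by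
        have := hneg _ ha
        simpa using this }
  have hJ : J = ⊥ := by
    rcases inv_sub h J (fun t ht x hx => by
      have := hD t ht _ hx
      show ((0, 0, t * (star t)⁻¹ * x) : K × K × K) ∈ Uf
      simpa using this) with h1 | h1
    · exact h1
    · exact absurd (fun b => (h1 ▸ AddSubgroup.mem_top b : b ∈ J)) hU0
  have hz : ∀ w ∈ Uf, w.1 = 0 → w = 0 := by
    intro w hw h1
    have h2 := hI w hw h1
    have h3 : w.2.2 ∈ J := by
      show ((0, 0, w.2.2) : K × K × K) ∈ Uf
      have e : ((0, 0, w.2.2) : K × K × K) = w := by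
        rw [← h1]
        refine Prod.ext rfl (Prod.ext ?_ rfl)
        rw [h1]
        exact h2.symm
      rw [e]
      exact hw
    rw [hJ, AddSubgroup.mem_bot] at h3
    exact Prod.ext h1 (Prod.ext h2 h3)
  have hinj : ∀ w ∈ Uf, ∀ w' ∈ Uf, w.1 = w'.1 → w = w' := by
    intro w hw w' hw' h1
    have := hz (w - w') (hsub w hw w' hw') (by rw [Prod.fst_sub, h1, sub_self])
    exact sub_eq_zero.1 this
  have hsurj : ∀ r : K, ∃ w ∈ Uf, w.1 = r := by
    have hi : Function.Injective (fun w : Uf => w.1.1) := fun w w' hww => Subtype.ext (hinj _ w.2 _ w'.2 hww)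
    have hfin : Finite Uf := Finite.of_injective _ hi
    obtain ⟨-, hs⟩ := (Nat.bijective_iff_injective_and_card _).2 ⟨hi, hcard⟩
    intro r
    obtain ⟨w, hw⟩ := hs r
    exact ⟨w.1, w.2, hw⟩
  choose f hf hf1 using hsurj
  have huniq : ∀ w ∈ Uf, w = f w.1 := fun w hw => hinj _ hw _ (hf _) (hf1 _).symm
  have hfadd : ∀ r r', f (r + r') = f r + f r' := fun r r' => by
    have := huniq (f r + f r') (hadd _ (hf _) _ (hf _))
    rw [Prod.fst_add, hf1, hf1] at this
    exact this.symm
  have hfD : ∀ t : K, t ≠ 0 → ∀ r, f (t * t * r) = (t * t * r, t * (f r).2.1, t * (star t)⁻¹ * (f r).2.2) := by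
    intro t ht r
    have := huniq _ (hD t ht (f r) (hf r))
    rw [hf1] at this
    exact this.symm
  have hf0 : f 0 = 0 := by
    have := huniq 0 hzero
    exact this.symm
  -- enough: both functions vanish
  suffices hs : ∀ r, (f r).2 = 0 by
    intro w
    constructor
    · intro hw
      rw [huniq w hw]
      exact hs _
    · intro hw
      have : w = f w.1 := Prod.ext (hf1 _).symm (by rw [hw, hs])
      rw [this]
      exact hf _
  -- `q ≥ 4`
  by_cases h4 : p ^ n = 3
  · -- `q = 3`
    obtain ⟨x1, x2, hx1, hx2, hx⟩ := h3 h4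
    have hp3 : p = 3 := by
      have h5 : p ∣ 3 := by rw [← h4]; exact dvd_pow_self p (by have := h.hn; omega)
      exact (Nat.prime_dvd_prime_iff_eq h.pp Nat.prime_three).1 h5
    have h30 : (3 : K) = 0 := by
      have := h.char
      have h5 := CharP.cast_eq_zero K p
      rw [hp3] at h5
      exact_mod_cast h5
    have h20 : (2 : K) ≠ 0 := by
      intro h5
      have : (1 : K) = 0 := by linear_combination h30 - h5
      exact one_ne_zero this
    have hd0 : ∀ r, (f r).2.1 = 0 := by
      intro r
      have h5 := congrArg (fun w : K × K × K => w.2.1) (hfD (-1) (by simp) r)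
      simp only [mul_neg, mul_one, neg_neg, neg_mul, one_mul] at h5
      have h6 : 2 * (f r).2.1 = 0 := by linear_combination h5
      exact (mul_eq_zero.1 h6).resolve_left h20
    have he0 : ∀ t, t ≠ 0 → (f (t * t)).2.2 = (f 1).2.2 * star (t * t) := by
      intro t ht
      have h5 := congrArg (fun w : K × K × K => w.2.2) (hfD t ht 1)
      simp only [mul_one] at h5
      rw [h5, star_mul', h.star_eq, h4]
      have h8 : t ^ 8 = 1 := by
        have : Fintype K := Fintype.ofFinite K
        have h6 := FiniteField.pow_card_sub_one_eq_one t ht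
        rw [← Nat.card_eq_fintype_card, h.card, h4] at h6
        exact h6
      field_simp
      linear_combination (-(f 1).2.2) * h8
    have he1 : ∀ r, (f r).2.2 = (f 1).2.2 * star r := by
      -- additive group generated by the squares
      have hsq : ∀ t, (f (t * t)).2.2 = (f 1).2.2 * star (t * t) := by
        intro t
        by_cases ht : t = 0
        · rw [ht, mul_zero, hf0, star_zero, mul_zero]
          rfl
        · exact he0 t ht
      intro r
      have e1 : ((r + 1) / 2) * ((r + 1) / 2) = r + ((r - 1) / 2) * ((r - 1) / 2) := by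
        field_simp
        ring
      have h5 := hsq ((r + 1) / 2)
      rw [e1, hfadd, Prod.snd_add, Prod.snd_add, hsq ((r - 1) / 2), star_add] at h5
      linear_combination h5
    have hc0 : (f 1).2.2 = 0 := by
      by_contra hc
      have hx20 : x2 ≠ 0 := by
        intro h5
        rw [h5, zero_mul] at hx2
        have : (1 : K) = 0 := by linear_combination hx2
        exact one_ne_zero this
      have h5 := congrArg (fun w : K × K × K => w.2.2) (huniq _ (hx (f 1) (hf 1)))
      simp only [hf1, mul_one] at h5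
      rw [he1 (x1 * x2⁻¹)] at h5
      have h6 : x1 * star x2 = star (x1 * x2⁻¹) := by
        apply mul_left_cancel₀ hc
        rw [← h5, mul_comm]
      rw [star_mul', star_inv₀] at h6
      have hs2 : star x2 ≠ 0 := star_ne_zero.2 hx20
      have h7 : x1 * star x2 * star x2 = star x1 := by
        rw [h6, inv_mul_cancel_right₀ hs2]
      have h8 : (x1 * star x2) * (x1 * star x2) = 1 := by
        linear_combination x1 * h7 + hx1
      have h9 : (x1 * star x2 - 1) * (x1 * star x2 + 1) = 0 := by linear_combination h8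
      have h10 : star (x1 * star x2) = x1 * star x2 := by
        rcases mul_eq_zero.1 h9 with h11 | h11
        · have h12 : x1 * star x2 = 1 := by linear_combination h11
          rw [h12, star_one]
        · have h12 : x1 * star x2 = -1 := by linear_combination h11
          rw [h12, star_neg, star_one]
      rw [star_mul', star_star] at h10
      have h11 : (1 : K) = -1 := by
        linear_combination -h8 - x1 * star x2 * h10 + x2 * star x2 * hx1 + hx2
      have : (2 : K) = 0 := by linear_combination h11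
      exact h20 this
    intro r
    refine Prod.ext (hd0 r) ?_
    rw [he1, hc0, zero_mul]
    rfl
  · -- `q ≥ 4`
    obtain ⟨t, ht, ht0, ht1⟩ : ∃ t : K, star t = t ∧ t ≠ 0 ∧ t * t ≠ 1 := by
      by_contra hc
      push Not at hc
      have h5 : Nat.card (Fx K) ≤ 3 := by
        have h6 : Nat.card (Fx K) ≤ Nat.card (({0, 1, -1} : Finset K) : Set K) := by
          refine Nat.card_le_card_of_injective (fun x => ⟨x.1, ?_⟩) ?_
          · by_cases hx0 : (x : K) = 0
            · simp [hx0]
            · have h7 := hc x.1 x.2 hx0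
              have h8 : ((x : K) - 1) * ((x : K) + 1) = 0 := by linear_combination h7
              rcases mul_eq_zero.1 h8 with h9 | h9
              · have : (x : K) = 1 := by linear_combination h9
                simp [this]
              · have : (x : K) = -1 := by linear_combination h9
                simp [this]
          · intro x y hxy
            exact Subtype.ext (Subtype.mk.inj hxy)
        refine h6.trans ?_
        rw [Nat.card_coe_set_eq, Set.ncard_coe_finset]
        exact Finset.card_le_three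
      rw [card_Fx h] at h5
      omega
    have he0 : ∀ r, (f r).2.2 = 0 := by
      intro r
      have ht2 : t * t - 1 ≠ 0 := sub_ne_zero.2 ht1
      have h5 : ∀ s, (f (t * t * s)).2.2 = (f s).2.2 := by
        intro s
        have h6 := congrArg (fun w : K × K × K => w.2.2) (hfD t ht0 s)
        simp only [ht] at h6
        rw [h6, mul_inv_cancel₀ ht0, one_mul]
      have h6 := h5 ((t * t - 1)⁻¹ * r)
      have e1 : t * t * ((t * t - 1)⁻¹ * r) = (t * t - 1)⁻¹ * r + r := by
        linear_combination mul_inv_cancel_left₀ ht2 r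
      rw [e1, hfadd, Prod.snd_add, Prod.snd_add] at h6
      exact (left_eq_add.1 h6.symm)
    have hd0 : ∀ r, (f r).2.1 = 0 := by
      by_contra hc
      push Not at hc
      obtain ⟨r0, hr0⟩ := hc
      obtain ⟨x, hx⟩ := exists_not_fixed h
      -- all values are reached
      have hall : ∀ y : K, y ≠ 0 → ∃ r, (f r).2.1 = y := by
        intro y hy
        have h6 := congrArg (fun w : K × K × K => w.2.1) (hfD (y * (f r0).2.1⁻¹) (mul_ne_zero hy (inv_ne_zero hr0)) r0)
        simp only at h6
        rw [inv_mul_cancel_right₀ hr0] at h6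
        exact ⟨_, h6⟩
      obtain ⟨r1, h1⟩ := hall 1 one_ne_zero
      have hx0 : x ≠ 0 := by
        rintro rfl
        exact hx (star_zero K)
      obtain ⟨r2, h2⟩ := hall x hx0
      have h7 := hiso (f r2) (hf _) (f r1) (hf _)
      simp only [om, hh, he0, h1, h2, star_zero, star_one, mul_zero, zero_mul, mul_one, add_zero, zero_add] at h7
      exact hx (sub_eq_zero.1 h7)
    intro r
    exact Prod.ext (hd0 r) (he0 r)

end

end Cfsg.Agent.H440.PU
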