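import Cfsg.Agent.H756.PU.Stmts

/-!
# S5258 (PU-L1a): the field with its involution (helper440)
-/

set_option autoImplicit false

namespace Cfsg.Agent.H440.PU

open Cfsg.Agent.H756.PU

universe u

variable {K : Type u} [Field K] [StarRing K] {p n : ℕ}

variable (K) in
/-- the fixed elements -/
def Fx : AddSubgroup K where
  carrier := {x | star x = x}
  zero_mem' := star_zero K
  add_mem' := by
    intro a b ha hb
    show star (a + b) = a + b
    rw [star_add, show star a = a from ha, show star b = b from hb]
  neg_mem' := by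
    intro a ha
    show star (-a) = -a
    rw [star_neg, show star a = a from ha]

variable (K) in
/-- the elements of trace zero -/
def T0 : AddSubgroup K where
  carrier := {x | x + star x = 0}
  zero_mem' := by
    show (0 : K) + star 0 = 0
    rw [star_zero, add_zero]
  add_mem' := by
    intro a b ha hb
    have h1 : a + star a = 0 := ha
    have h2 : b + star b = 0 := hb
    show a + b + star (a + b) = 0
    rw [star_add]
    linear_combination h1 + h2
  neg_mem' := by
    intro a ha
    have h1 : a + star a = 0 := ha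
    show -a + star (-a) = 0
    rw [star_neg]
    linear_combination -h1

/-- the trace -/
def tr : K →+ K where
  toFun x := x + star x
  map_zero' := by simp
  map_add' x y := by rw [star_add]; abel

/-- `x ↦ x* - x` -/
def df : K →+ K where
  toFun x := star x - x
  map_zero' := by simp
  map_add' x y := by rw [star_add]; abel

theorem ker_tr : (tr : K →+ K).ker = T0 K := rfl

theorem ker_df : (df : K →+ K).ker = Fx K := by
  ext x
  rw [AddMonoidHom.mem_ker]
  show star x - x = 0 ↔ star x = x
  exact sub_eq_zero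

theorem range_tr_le : (tr : K →+ K).range ≤ Fx K := by
  rintro _ ⟨x, rfl⟩
  show star (x + star x) = x + star x
  rw [star_add, star_star, add_comm]

theorem range_df_le : (df : K →+ K).range ≤ T0 K := by
  rintro _ ⟨x, rfl⟩
  show star x - x + star (star x - x) = 0
  rw [star_sub, star_star]
  ring

theorem card_pow_eq_le [Finite K] {q : ℕ} (hq : 1 < q) (a : K) : Nat.card {x : K // x ^ q = a * x} ≤ q := by
  classical
  have : Fintype K := Fintype.ofFinite K
  let f : Polynomial K := Polynomial.X ^ q - Polynomial.C a * Polynomial.X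
  have hd : (Polynomial.C a * Polynomial.X : Polynomial K).degree < q :=
    (Polynomial.degree_C_mul_X_le a).trans_lt (by exact_mod_cast hq)
  have hf : f.natDegree = q := by
    rw [Polynomial.natDegree_eq_of_degree_eq_some]
    have h1 := Polynomial.degree_sub_eq_left_of_degree_lt (p := (Polynomial.X ^ q : Polynomial K))
      (q := Polynomial.C a * Polynomial.X) (by rw [Polynomial.degree_X_pow]; exact hd)
    rw [h1, Polynomial.degree_X_pow]
  have hf0 : f ≠ 0 := by
    intro h
    rw [h, Polynomial.natDegree_zero] at hf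
    omega
  calc Nat.card {x : K // x ^ q = a * x} ≤ Nat.card {x : K // x ∈ f.roots.toFinset} := by
        refine Nat.card_le_card_of_injective (fun x => ⟨x.1, ?_⟩) (fun x y h => Subtype.ext (Subtype.mk.inj h))
        rw [Multiset.mem_toFinset, Polynomial.mem_roots hf0, Polynomial.IsRoot, Polynomial.eval_sub,
          Polynomial.eval_pow, Polynomial.eval_mul, Polynomial.eval_C, Polynomial.eval_X, x.2, sub_self]
    _ = f.roots.toFinset.card := by rw [Nat.card_eq_fintype_card, Fintype.card_coe]
    _ ≤ f.roots.card := Multiset.toFinset_card_le _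
    _ ≤ q := hf ▸ Polynomial.card_roots' f

section

variable (h : HypK K p n)
include h

theorem one_lt_q : 1 < p ^ n := Nat.one_lt_pow (Nat.one_le_iff_ne_zero.1 h.hn) h.pp.one_lt

theorem card_Fx_le : Nat.card (Fx K) ≤ p ^ n := by
  have := h.fin
  refine le_trans (Nat.card_le_card_of_injective (fun x : Fx K => (⟨x.1, ?_⟩ : {x : K // x ^ p ^ n = 1 * x}))
    (fun x y h => Subtype.ext (Subtype.mk.inj h))) (card_pow_eq_le (one_lt_q h) 1)
  rw [← h.star_eq, one_mul]
  exact x.2

theorem card_T0_le : Nat.card (T0 K) ≤ p ^ n := by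
  have := h.fin
  refine le_trans (Nat.card_le_card_of_injective (fun x : T0 K => (⟨x.1, ?_⟩ : {x : K // x ^ p ^ n = (-1) * x}))
    (fun x y h => Subtype.ext (Subtype.mk.inj h))) (card_pow_eq_le (one_lt_q h) (-1))
  rw [← h.star_eq]
  have h1 : (x : K) + star (x : K) = 0 := x.2
  linear_combination h1

theorem card_ker_mul_range (f : K →+ K) : Nat.card f.ker * Nat.card f.range = (p ^ n) ^ 2 := by
  have := h.fin
  rw [← h.card, ← Nat.card_congr (QuotientAddGroup.quotientKerEquivRange f).toEquiv, mul_comm,
    ← AddSubgroup.card_eq_card_quotient_mul_card_addSubgroup]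

theorem card_T0 : Nat.card (T0 K) = p ^ n := by
  have := h.fin
  have h1 := card_ker_mul_range h (tr : K →+ K)
  have h2 := Nat.card_le_card_of_injective _ (AddSubgroup.inclusion_injective (range_tr_le (K := K)))
  have h3 := card_Fx_le h
  have h4 := card_T0_le h
  rw [ker_tr] at h1
  have h5 := one_lt_q h
  have : (p ^ n) * (p ^ n) ≤ Nat.card (T0 K) * (p ^ n) := by
    calc (p ^ n) * (p ^ n) = Nat.card (T0 K) * Nat.card (tr : K →+ K).range := by rw [h1, sq]
      _ ≤ Nat.card (T0 K) * (p ^ n) := Nat.mul_le_mul_left _ (h2.trans h3)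
  exact le_antisymm h4 (Nat.le_of_mul_le_mul_right this (by omega))

theorem card_range_tr : Nat.card (tr : K →+ K).range = p ^ n := by
  have h1 := card_ker_mul_range h (tr : K →+ K)
  rw [ker_tr, card_T0 h, sq] at h1
  exact Nat.eq_of_mul_eq_mul_left (by have := one_lt_q h; omega) h1

theorem card_Fx : Nat.card (Fx K) = p ^ n := by
  have := h.fin
  refine le_antisymm (card_Fx_le h) ?_
  rw [← card_range_tr h]
  exact Nat.card_le_card_of_injective _ (AddSubgroup.inclusion_injective (range_tr_le (K := K)))

theorem card_range_df : Nat.card (df : K →+ K).range = p ^ n := by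
  have h1 := card_ker_mul_range h (df : K →+ K)
  rw [ker_df, card_Fx h, sq] at h1
  exact Nat.eq_of_mul_eq_mul_left (by have := one_lt_q h; omega) h1

theorem eq_of_le_of_card {A B : AddSubgroup K} (hle : A ≤ B) (hA : Nat.card A = p ^ n) (hB : Nat.card B = p ^ n) :
    A = B := by
  have := h.fin
  exact AddSubgroup.eq_of_le_of_card_ge hle (by rw [hA, hB])

/-- the trace is onto -/
theorem exists_trace {a : K} (ha : star a = a) : ∃ c : K, c + star c = a := by
  have h1 := eq_of_le_of_card h range_tr_le (card_range_tr h) (card_Fx h)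
  have h2 : a ∈ Fx K := ha
  rw [← h1] at h2
  obtain ⟨c, hc⟩ := h2
  exact ⟨c, hc⟩

/-- additive Hilbert 90 -/
theorem exists_diff {a : K} (ha : a + star a = 0) : ∃ c : K, star c - c = a := by
  have h1 := eq_of_le_of_card h range_df_le (card_range_df h) (card_T0 h)
  have h2 : a ∈ T0 K := ha
  rw [← h1] at h2
  obtain ⟨c, hc⟩ := h2
  exact ⟨c, hc⟩

theorem exists_not_fixed : ∃ x : K, star x ≠ x := by
  by_contra hc
  push Not at hc
  have := h.fin
  have h1 : Fx K = ⊤ := by
    ext x
    exact ⟨fun _ => AddSubgroup.mem_top x, fun _ => hc x⟩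
  have h2 := card_Fx h
  rw [h1, AddSubgroup.card_top, h.card, sq] at h2
  have h3 := one_lt_q h
  have : p ^ n * p ^ n > p ^ n * 1 := Nat.mul_lt_mul_of_pos_left h3 (by omega)
  omega

theorem exists_T0 : ∃ κ : K, κ ≠ 0 ∧ κ + star κ = 0 := by
  obtain ⟨x, hx⟩ := exists_not_fixed h
  refine ⟨star x - x, sub_ne_zero.2 hx, ?_⟩
  rw [star_sub, star_star]
  ring

/-- the norm is onto -/
theorem exists_norm {a : K} (ha : star a = a) : ∃ s : K, s * star s = a := by
  classical
  by_cases ha0 : a = 0
  · exact ⟨0, by rw [ha0, zero_mul]⟩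
  have := h.fin
  have : Fintype K := Fintype.ofFinite K
  have hq := one_lt_q h
  let N : Kˣ →* Kˣ := powMonoidHom (p ^ n + 1)
  -- the fixed units
  let F : Subgroup Kˣ := (powMonoidHom (p ^ n - 1) : Kˣ →* Kˣ).ker
  have hNF : N.range ≤ F := by
    rintro _ ⟨x, rfl⟩
    rw [MonoidHom.mem_ker, powMonoidHom_apply, powMonoidHom_apply, ← pow_mul]
    have h1 : (p ^ n + 1) * (p ^ n - 1) = Nat.card Kˣ := by
      rw [Nat.card_units, h.card, ← Nat.sq_sub_sq, one_pow]
    rw [h1]
    exact pow_card_eq_one'
  have hF : Nat.card F ≤ p ^ n - 1 := by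
    have h1 := IsCyclic.card_pow_eq_one_le (α := Kˣ) (n := p ^ n - 1) (by omega)
    rw [← Fintype.card_subtype] at h1
    refine le_trans (le_of_eq ?_) h1
    rw [Nat.card_eq_fintype_card]
    exact Fintype.card_congr (Equiv.refl _)
  have hK : Nat.card N.ker ≤ p ^ n + 1 := by
    have h1 := IsCyclic.card_pow_eq_one_le (α := Kˣ) (n := p ^ n + 1) (by omega)
    rw [← Fintype.card_subtype] at h1
    refine le_trans (le_of_eq ?_) h1
    rw [Nat.card_eq_fintype_card]
    exact Fintype.card_congr (Equiv.refl _)
  have hc : Nat.card N.ker * Nat.card N.range = (p ^ n + 1) * (p ^ n - 1) := by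
    rw [← Nat.card_congr (QuotientGroup.quotientKerEquivRange N).toEquiv, mul_comm,
      ← Subgroup.card_eq_card_quotient_mul_card_subgroup, Nat.card_units, h.card, ← Nat.sq_sub_sq, one_pow]
  have hR : p ^ n - 1 ≤ Nat.card N.range := by
    have : (p ^ n + 1) * (p ^ n - 1) ≤ (p ^ n + 1) * Nat.card N.range := by
      rw [← hc]
      exact Nat.mul_le_mul_right _ hK
    exact Nat.le_of_mul_le_mul_left this (by omega)
  have hE : N.range = F := Subgroup.eq_of_le_of_card_ge hNF (hF.trans hR)
  have haF : Units.mk0 a ha0 ∈ F := by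
    rw [MonoidHom.mem_ker, powMonoidHom_apply]
    ext
    rw [Units.val_pow_eq_pow_val, Units.val_mk0, Units.val_one]
    have h1 : a ^ p ^ n = a := by rw [← h.star_eq]; exact ha
    have h2 : a ^ (p ^ n - 1) * a = 1 * a := by
      rw [← pow_succ, Nat.sub_add_cancel (by omega), h1, one_mul]
    exact mul_right_cancel₀ ha0 h2
  rw [← hE] at haF
  obtain ⟨s, hs⟩ := haF
  refine ⟨s, ?_⟩
  have h1 := congrArg Units.val hs
  rw [powMonoidHom_apply, Units.val_pow_eq_pow_val, Units.val_mk0, pow_succ, mul_comm] at h1
  rw [h.star_eq]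
  exact h1

end

end Cfsg.Agent.H440.PU
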