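import Cfsg.Agent.H440.PU.Opp

/-!
# S5258 (PU-L1a): the Weyl element (helper440)
-/

set_option autoImplicit false

namespace Cfsg.Agent.H440.PU

open Cfsg Cfsg.FusionSystem Cfsg.Agent.H756.PU

universe u v

variable {K : Type u} [Field K] [StarRing K] {p n : ℕ}

/-- the automorphisms of the field with nine elements -/
theorem tau_cases (h : HypK K p n) (h3 : p ^ n = 3) :
    (∀ t : K, star t = t → t = 0 ∨ t = 1 ∨ t = -1) ∧
    ∀ τ : K ≃+* K, (∀ x, τ (star x) = star (τ x)) → (∀ x, τ x = x) ∨ (∀ x, τ x = star x) := by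
  have hst : ∀ x : K, star x = x ^ 3 := fun x => by rw [h.star_eq, h3]
  have hch3 : (3 : K) = 0 := by
    have := h.char
    have hp3 : p = 3 := by
      have h1 : p ∣ 3 := h3 ▸ dvd_pow_self p (by have := h.hn; omega)
      exact (Nat.prime_dvd_prime_iff_eq h.pp Nat.prime_three).1 h1
    have h1 := CharP.cast_eq_zero K p
    rw [hp3] at h1
    exact_mod_cast h1
  obtain ⟨i, hi0, hi⟩ := exists_T0 h
  have hsq : ∀ t : K, t ≠ 0 → t + star t = 0 → t ^ 2 = -1 := by
    intro t ht0 ht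
    rw [hst] at ht
    have h1 : t * (t ^ 2 + 1) = 0 := by linear_combination ht
    have h2 := (mul_eq_zero.1 h1).resolve_left ht0
    linear_combination h2
  have hpm : ∀ t : K, t + star t = 0 → t = 0 ∨ t = i ∨ t = -i := by
    intro t ht
    by_cases ht0 : t = 0
    · exact Or.inl ht0
    · right
      have h1 := hsq t ht0 ht
      have h2 := hsq i hi0 hi
      have h4 : (t - i) * (t + i) = 0 := by linear_combination h1 - h2
      rcases mul_eq_zero.1 h4 with h5 | h5
      · left; linear_combination h5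
      · right; linear_combination h5
  have hfx : ∀ t : K, star t = t → t = 0 ∨ t = 1 ∨ t = -1 := by
    intro t ht
    rw [hst] at ht
    have h4 : t * ((t - 1) * (t + 1)) = 0 := by linear_combination ht
    rcases mul_eq_zero.1 h4 with h5 | h5
    · exact Or.inl h5
    · rcases mul_eq_zero.1 h5 with h5 | h5
      · right; left; linear_combination h5
      · right; right; linear_combination h5
  refine ⟨hfx, ?_⟩
  intro τ hτ
  have hτfx : ∀ t, star t = t → τ t = t := by
    intro t ht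
    rcases hfx t ht with h1 | h1 | h1 <;> simp [h1]
  have hdec : ∀ x : K, star (-(x + star x)) = -(x + star x) ∧ (-(x - star x)) + star (-(x - star x)) = 0 ∧
      x = -(x + star x) + -(x - star x) := by
    intro x
    refine ⟨?_, ?_, ?_⟩
    · rw [star_neg, star_add, star_star]; ring
    · rw [star_neg, star_sub, star_star]; ring
    · linear_combination x * hch3
  have hτi : τ i + star (τ i) = 0 := by rw [← hτ, ← map_add, hi, map_zero]
  rcases hpm (τ i) hτi with h1 | h1 | h1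
  · exact absurd h1 (by simpa using hi0)
  · left
    intro x
    obtain ⟨h4, h5, h6⟩ := hdec x
    have h7 : ∀ t, t + star t = 0 → τ t = t := by
      intro t ht
      rcases hpm t ht with h8 | h8 | h8 <;> simp [h8, h1]
    calc τ x = τ (-(x + star x) + -(x - star x)) := by rw [← h6]
      _ = -(x + star x) + -(x - star x) := by rw [map_add, hτfx _ h4, h7 _ h5]
      _ = x := h6.symm
  · right
    intro x
    obtain ⟨h4, h5, h6⟩ := hdec x
    have h7 : ∀ t, t + star t = 0 → τ t = -t := by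
      intro t ht
      rcases hpm t ht with h8 | h8 | h8 <;> simp [h8, h1]
    calc τ x = τ (-(x + star x) + -(x - star x)) := by rw [← h6]
      _ = -(x + star x) + -(-(x - star x)) := by rw [map_add, hτfx _ h4, h7 _ h5]
      _ = star x := by linear_combination (-star x) * hch3

/-- conjugation of `S` by `D` -/
theorem conj_cj {d : MulAut (UG K)} {δ : MulAut (Q1 K)} (hδ : IsR d δ) (y : UG K) : δ * cj y = cj (d y) * δ := by
  refine MulEquiv.ext fun e => Subtype.ext ?_
  rw [MulAut.mul_apply, MulAut.mul_apply, hδ, cj_coe, cj_coe, hδ, map_mul, map_mul, map_inv]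

section

variable (h : HypK K p n) {Γ : Subgroup (MulAut (Q1 K))} {D : Subgroup (MulAut (UG K))}

/-- the case `q = 3` -/
theorem q3_elt (hG : StGrp.{u}) (hP : Par p (Q1 K) Γ D) (h3 : p ^ n = 3) (Uf : Set (K × K × K))
    (hUD : ∀ d ∈ D, ∀ δ : MulAut (Q1 K), IsR d δ → rho h δ '' Uf = Uf)
    (H : ∃ g ∈ Gt h Γ, g '' U0s K = U0s K ∧ (∀ w w', om (g w) (g w') = om w w') ∧
        ∀ k : ℕ, 0 < k → k < 8 → ∃ x ∈ Pt h, ∃ y ∈ Pt h,
          (g ^ k * x * (g ^ k)⁻¹ * x⁻¹) * y ≠ y * (g ^ k * x * (g ^ k)⁻¹ * x⁻¹)) :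
    ∃ x1 x2 : K, x1 * star x1 = 1 ∧ x2 * star x2 = -1 ∧
      ∀ w ∈ Uf, ((x1 * x2⁻¹ * w.1, x1 * w.2.1, x1 * star x2 * w.2.2) : K × K × K) ∈ Uf := by
  obtain ⟨_, ⟨γ, hγ, rfl⟩, hgU, hgom, hk⟩ := H
  obtain ⟨z, d, hd, δ, hδ, rfl, x1, x2, τ, ht⟩ := norm_form h hP hG hγ
    (fun x hx => conj_mem_of_U0 h hP ⟨_, hγ, rfl⟩ hgU hx)
  obtain ⟨hfx, htau⟩ := tau_cases h h3
  -- the action on `P / Z(P)`
  have hact : ∀ (k : ℕ) (y : UG K), ∃ y' : UG K,
      rho h (cj z * δ) ^ k * rho h (cj y) = rho h (cj y') * rho h (cj z * δ) ^ k ∧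
        y'.u2 = (fun s => x2 * τ s)^[k] y.u2 := by
    intro k y
    induction k with
    | zero => exact ⟨y, by simp, rfl⟩
    | succ k ih =>
      obtain ⟨y', h4, h5⟩ := ih
      refine ⟨z * d y' * z⁻¹, ?_, ?_⟩
      · rw [pow_succ', mul_assoc, h4, ← mul_assoc, ← map_mul, mul_assoc, conj_cj hδ]
        have e1 : cj z * (cj (d y') * δ) = cj (z * d y' * z⁻¹) * (cj z * δ) := by
          have e2 : cj z * (cj (d y') * δ) = cj (z * d y') * δ := by rw [cj_mul, mul_assoc]
          have e3 : cj (z * d y' * z⁻¹) * (cj z * δ) = cj (z * d y') * δ := by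
            rw [← mul_assoc, ← cj_mul, inv_mul_cancel_right]
          rw [e2, e3]
        rw [e1, map_mul, mul_assoc]
      · rw [Function.iterate_succ_apply', ← h5, UG.mul_u2, UG.mul_u2, UG.inv_u2, ht.u2]
        ring
  have h4ne : ¬ ∀ s : K, (fun s => x2 * τ s)^[4] s = s := by
    intro hall
    obtain ⟨x, hx, y, hy, hne⟩ := hk 4 (by norm_num) (by norm_num)
    apply hne
    obtain ⟨a, rfl⟩ := (mem_Pt_iff h x).1 hx
    obtain ⟨b, rfl⟩ := (mem_Pt_iff h y).1 hy
    obtain ⟨a', h5, h6⟩ := hact 4 (a : UG K)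
    have h7 : rho h (cj z * δ) ^ 4 * rho h (cj (a : UG K)) * (rho h (cj z * δ) ^ 4)⁻¹ * (rho h (cj (a : UG K)))⁻¹ =
        rho h (cj (a' * (a : UG K)⁻¹)) := by
      rw [h5, mul_inv_cancel_right, ← map_inv, ← map_mul]
      congr 1
      rw [cj_mul]
      congr 1
      rw [inv_eq_iff_mul_eq_one, ← cj_mul, mul_inv_cancel, cj_one]
    rw [h7]
    have h8 : (a' * (a : UG K)⁻¹).u2 = 0 := by
      rw [UG.mul_u2, UG.inv_u2, h6, hall]
      ring
    ext1 w
    rw [Equiv.Perm.mul_apply, Equiv.Perm.mul_apply, rho_cj, rho_cj, rho_cj, rho_cj, h8]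
    refine Prod.ext rfl (Prod.ext ?_ ?_)
    · simp
    · simp only [star_zero, zero_mul, sub_zero, add_zero]
      ring
  -- the norm of `x2`
  have hN : ∀ x : K, star (x * star x) = x * star x := fun x => by rw [star_mul', star_star, mul_comm]
  have hN2 : (x2 * star x2) = 1 ∨ x2 * star x2 = -1 := by
    rcases hfx _ (hN x2) with h5 | h5 | h5
    · exact absurd h5 (mul_ne_zero ht.ne2 (star_ne_zero.2 ht.ne2))
    · exact Or.inl h5
    · exact Or.inr h5
  rcases htau τ ht.tst with hτ | hτ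
  · have h2 : x2 * star x2 = -1 := by
      refine hN2.resolve_left fun h5 => h4ne fun s => ?_
      simp only [Function.iterate_succ_apply, Function.iterate_zero, id, hτ]
      rw [h.star_eq, h3] at h5
      linear_combination s * h5
    have h1 : x1 * star x1 = 1 := by
      obtain ⟨v, hv⟩ := exists_not_fixed h
      have h5 := hgom (0, 1, 0) (0, v, 0)
      rw [map_mul, Equiv.Perm.mul_apply, Equiv.Perm.mul_apply, om_Pt h (cj_mem_Pt h z), rho_tor h ht hδ,
        rho_tor h ht hδ] at h5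
      simp only [om, hh, hτ, star_zero, mul_zero, add_zero, zero_add, mul_one, one_mul, star_mul', star_star] at h5
      have h6 : (x1 * star x1 - 1) * (star v - v) = 0 := by linear_combination -h5
      have h7 := (mul_eq_zero.1 h6).resolve_right (sub_ne_zero.2 hv)
      linear_combination h7
    refine ⟨x1, x2, h1, h2, fun w hw => ?_⟩
    have h5 : rho h δ w ∈ Uf := by
      rw [← hUD d hd δ hδ]
      exact ⟨w, hw, rfl⟩
    rw [rho_tor h ht hδ, hτ, hτ, hτ] at h5
    exact h5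
  · exfalso
    apply h4ne
    intro s
    simp only [Function.iterate_succ_apply, Function.iterate_zero, id, hτ, star_mul', star_star]
    rcases hN2 with h5 | h5
    · linear_combination (x2 * star x2 + 1) * s * h5
    · linear_combination (x2 * star x2 - 1) * s * h5

/-- **the Weyl element** -/
theorem nu_facts (hU3 : StU3.{u}) (hG : StGrp.{u}) (h2 : p ^ n ≠ 2) (hP : Par p (Q1 K) Γ D)
    (hT : HasTor D (fun t => t) (fun t => t⁻¹)) :
    ∃ nu : Equiv.Perm (K × K × K), nu ∈ Gt h Γ ∧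
      (∃ κ : K, κ ≠ 0 ∧ κ + star κ = 0 ∧ ∀ w, nu w = (-κ⁻¹ * w.2.2, w.2.1, κ * w.1)) ∧
      (∀ g ∈ Gt h Γ, g '' U0s K ≠ U0s K → ∃ x ∈ Pt h, ∃ m ∈ Gt h Γ, m '' U0s K = U0s K ∧ g = x * nu * m) := by
  have hfin := h.fin
  obtain ⟨nu, x, y', hnu, hx, hxc, hy', hyc, hnueq, hnU, hnnU, hUD, hP1, hP3⟩ := opp_facts h hU3 hG h2 hP
  refine ⟨nu, hnu, ?_, hP1⟩
  obtain ⟨κ, hκ, hxw⟩ := central_form h hx hxc
  obtain ⟨κ', hκ', hyw⟩ := central_form h hy' hyc
  have hsym : ∀ v, nu (nu.symm v) = v := fun v => nu.apply_symm_apply v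
  have hsym' : ∀ v, nu.symm (nu v) = v := fun v => nu.symm_apply_apply v
  obtain ⟨y, hy⟩ : ∃ y : Equiv.Perm (K × K × K), y = nu * y' * nu⁻¹ := ⟨_, rfl⟩
  rw [← hy] at hnueq
  have hyG : y ∈ Gt h Γ := by
    rw [hy]
    exact mul_mem (mul_mem hnu (Pt_le h hP hy')) (inv_mem hnu)
  have hyap : ∀ v, y v = nu (y' (nu.symm v)) := fun v => by rw [hy]; rfl
  have hnuap : ∀ w, nu w = x (y (x w)) := fun w => by
    conv_lhs => rw [hnueq]
    rfl
  have yfix : ∀ v ∈ nu '' U1s K, y v = v := by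
    rintro _ ⟨v, hv, rfl⟩
    have h0 : v.1 = 0 := hv
    rw [hyap, hsym', hyw, h0, mul_zero, add_zero]
    congr 1
    exact Prod.ext h0.symm rfl
  have ysub : ∀ v, y v - v ∈ nu '' U0s K := by
    intro v
    refine ⟨y' (nu.symm v) - nu.symm v, ⟨?_, ?_⟩, ?_⟩
    · rw [hyw, Prod.fst_sub, sub_self]
    · rw [hyw, Prod.snd_sub, Prod.fst_sub, sub_self]
    · rw [Gt_sub h hnu, hsym, hyap]
  have hUU : nu '' U0s K ⊆ nu '' U1s K := Set.image_mono fun w hw => hw.1
  have hUf : ∀ w : K × K × K, w ∈ nu '' U0s K ↔ w.2 = 0 := by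
    apply uf_eq h
    · have := one_lt_q h
      omega
    · rintro _ ⟨w, hw, rfl⟩ _ ⟨w', hw', rfl⟩
      refine ⟨w + w', ⟨?_, ?_⟩, Gt_add h hnu _ _⟩
      · rw [Prod.fst_add, hw.1, hw'.1, add_zero]
      · rw [Prod.snd_add, Prod.fst_add, hw.2, hw'.2, add_zero]
    · rintro _ ⟨w, hw, rfl⟩
      refine ⟨-w, ⟨?_, ?_⟩, Gt_neg h hnu _⟩
      · rw [Prod.fst_neg, hw.1, neg_zero]
      · rw [Prod.snd_neg, Prod.fst_neg, hw.2, neg_zero]
    · rw [Nat.card_coe_set_eq, Set.ncard_image_of_injective _ nu.injective, ncard_U0s h]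
    · intro w hw hw1
      have h3 : nu w = w := by
        have e1 : x w = w := by
          rw [hxw, hw1, mul_zero, add_zero]
          exact Prod.ext hw1.symm rfl
        rw [hnuap, e1, yfix w (hUU hw), e1]
      have h4 : nu w ∈ U0s K := by
        rw [← hnnU]
        exact ⟨w, hw, rfl⟩
      rw [h3] at h4
      exact h4.2
    · intro hall
      apply hnU
      symm
      refine Set.eq_of_subset_of_ncard_le ?_ ?_ (Set.toFinite _)
      · rintro ⟨w1, w2, w3⟩ ⟨h3, h4⟩
        have h3' : w1 = 0 := h3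
        have h4' : w2 = 0 := h4
        rw [h3', h4']
        exact hall w3
      · rw [Set.ncard_image_of_injective _ nu.injective]
    · rintro _ ⟨w, hw, rfl⟩ _ ⟨w', hw', rfl⟩
      rw [Gt_perp h hnu]
      exact (mem_U0s_iff h w).1 hw w' hw'.1
    · intro t ht w hw
      obtain ⟨α, hα⟩ := (hG h).2.2.1 t t⁻¹ (RingEquiv.refl K) ht (inv_ne_zero ht)
      have hαD : α ∈ D := hT t ht α hα
      have h3 : rho h (res α (tor_mem hα)) w ∈ nu '' U0s K := by
        rw [← hUD α hαD _ (res_isR α (tor_mem hα))]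
        exact ⟨w, hw, rfl⟩
      rw [rho_tor h hα (res_isR _ _)] at h3
      simp only [RingEquiv.refl_apply, inv_inv, star_inv₀] at h3
      exact h3
    · intro h3
      exact q3_elt h hG hP h3 _ hUD (hP3 h3)
  have hU1f : ∀ w : K × K × K, w.2.2 = 0 → w ∈ nu '' U1s K := by
    intro w hw
    refine ⟨nu.symm w, ?_, hsym w⟩
    rw [mem_U1s_iff h]
    intro v hv
    rw [← Gt_perp h hnu, hsym]
    have h3 := (hUf (nu v)).1 ⟨v, hv, rfl⟩
    have h4 : (nu v).2.1 = 0 := congrArg Prod.fst h3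
    have h5 : (nu v).2.2 = 0 := congrArg Prod.snd h3
    simp only [om, hh, h4, h5, hw, star_zero, mul_zero, zero_mul, add_zero, sub_zero]
  have hphi : ∀ b : K, b + κ * (y (0, 0, b)).1 = 0 ∧ y (0, 0, b) = ((y (0, 0, b)).1, 0, b) := by
    intro b
    have h3 := (hUf _).1 (ysub (0, 0, b))
    have h4 : (y (0, 0, b)).2 = (0, b) := by
      rw [Prod.snd_sub] at h3
      exact sub_eq_zero.1 h3
    have h5 : y (0, 0, b) = ((y (0, 0, b)).1, 0, b) := Prod.ext rfl h4
    have h6 : nu (0, 0, b) ∈ nu '' U0s K := ⟨_, ⟨rfl, rfl⟩, rfl⟩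
    rw [hUf, hnuap] at h6
    have h7 : x (0, 0, b) = (0, 0, b) := by
      rw [hxw]
      simp
    rw [h7, hxw, h4] at h6
    exact ⟨congrArg Prod.snd h6, h5⟩
  have hκ0 : κ ≠ 0 := by
    intro h0
    have h3 := (hphi 1).1
    rw [h0, zero_mul, add_zero] at h3
    exact one_ne_zero h3
  have hyfull : ∀ w : K × K × K, y w = (w.1 - κ⁻¹ * w.2.2, w.2.1, w.2.2) := by
    intro w
    have h3 : w = (w.1, w.2.1, 0) + (0, 0, w.2.2) := by
      refine Prod.ext ?_ (Prod.ext ?_ ?_) <;> simp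
    obtain ⟨h4, h5⟩ := hphi w.2.2
    have h6 : (y (0, 0, w.2.2)).1 = -κ⁻¹ * w.2.2 := by
      field_simp
      linear_combination h4
    rw [h6] at h5
    conv_lhs => rw [h3]
    rw [Gt_add h hyG, yfix _ (hU1f _ rfl), h5]
    refine Prod.ext ?_ (Prod.ext ?_ ?_)
    · simp [sub_eq_add_neg]
    · simp
    · simp
  refine ⟨κ, hκ0, hκ, fun w => ?_⟩
  rw [hnuap, hxw, hyfull, hxw]
  refine Prod.ext ?_ (Prod.ext rfl ?_)
  · field_simp
    ring
  · field_simp
    ring

end

end Cfsg.Agent.H440.PU
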