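import Cfsg.Agent.H440.PU.Wact

/-!
# S5258 (PU-L1a): the group `P = S/Q₁` (helper440)
-/

set_option autoImplicit false

namespace Cfsg.Agent.H440.PU

open Cfsg Cfsg.FusionSystem Cfsg.Agent.H756.PU
open scoped commutatorElement

universe u v

variable {K : Type u} [Field K] [StarRing K] {p n : ℕ}

variable (K) in
/-- the complement of `Q₁` -/
def PP : Subgroup (UG K) where
  carrier := {g | g.r = 0 ∧ g.u1 = 0 ∧ g.a = 0 ∧ g.b = 0}
  one_mem' := by simp
  mul_mem' := by
    rintro x y ⟨h1, h2, h3, h4⟩ ⟨k1, k2, k3, k4⟩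
    simp [UG.mul_a, UG.mul_b, UG.d, h1, h2, h3, h4, k1, k2, k3, k4]
  inv_mem' := by
    rintro x ⟨h1, h2, h3, h4⟩
    simp [UG.inv_a, UG.inv_b, UG.d, h1, h2, h3, h4]

/-- the element `(s, c)` -/
def pp (s c : K) (hc : c + star c + s * star s = 0) : PP K :=
  ⟨{ r := 0, u1 := 0, u2 := s, a := 0, b := 0, c := c, ha := by simp, hc := hc }, rfl, rfl, rfl, rfl⟩

theorem PP_ext {x y : PP K} (h1 : (x : UG K).u2 = (y : UG K).u2) (h2 : (x : UG K).c = (y : UG K).c) : x = y := by
  obtain ⟨⟨r, u1, u2, a, b, c, ha, hc⟩, h3, h4, h5, h6⟩ := x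
  obtain ⟨⟨r', u1', u2', a', b', c', ha', hc'⟩, h3', h4', h5', h6'⟩ := y
  simp only at h1 h2 h3 h4 h5 h6 h3' h4' h5' h6'
  subst h1 h2 h3 h4 h5 h6
  subst h3' h4' h5' h6'
  rfl

/-- the first coordinate -/
def ppf : PP K →* Multiplicative K where
  toFun x := Multiplicative.ofAdd (x : UG K).u2
  map_one' := rfl
  map_mul' x y := by
    rw [Subgroup.coe_mul, UG.mul_u2, ofAdd_add]

theorem mem_ker_ppf (x : PP K) : x ∈ (ppf : PP K →* Multiplicative K).ker ↔ (x : UG K).u2 = 0 := by
  rw [MonoidHom.mem_ker]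
  exact ⟨fun h => congrArg Multiplicative.toAdd h, fun h => congrArg Multiplicative.ofAdd h⟩

theorem PP_c_mem {x : PP K} (hx : (x : UG K).u2 = 0) : (x : UG K).c + star (x : UG K).c = 0 := by
  have := (x : UG K).hc
  rwa [hx, zero_mul, add_zero] at this

/-- the commutator -/
theorem PP_comm (x y : PP K) (c : K) (hc : c + star c + 0 * star 0 = 0)
    (h1 : c = star (x : UG K).u2 * (y : UG K).u2 - (x : UG K).u2 * star (y : UG K).u2) :
    x * y = pp 0 c hc * (y * x) := by
  apply PP_ext
  · simp only [Subgroup.coe_mul, UG.mul_u2, pp]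
    ring
  · simp only [Subgroup.coe_mul, UG.mul_u2, UG.mul_c, pp, h1]
    ring

section

variable (h : HypK K p n)
include h

theorem card_ker_ppf : Nat.card (ppf : PP K →* Multiplicative K).ker = p ^ n := by
  rw [← card_T0 h]
  refine Nat.card_congr
    { toFun := fun x => ⟨((x : PP K) : UG K).c, PP_c_mem ((mem_ker_ppf _).1 x.2)⟩
      invFun := fun c => ⟨pp 0 c (by
        have h1 : (c : K) + star (c : K) = 0 := c.2
        rw [h1, zero_mul, add_zero]), (mem_ker_ppf _).2 rfl⟩
      left_inv := fun x => Subtype.ext (PP_ext ((mem_ker_ppf _).1 x.2).symm rfl)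
      right_inv := fun c => rfl }

theorem exists_pp (s : K) : ∃ c, c + star c + s * star s = 0 := by
  obtain ⟨c, hc⟩ := exists_trace h (a := -(s * star s)) (by rw [star_neg, star_mul', star_star, mul_comm])
  exact ⟨c, by rw [hc]; ring⟩

theorem card_PP : Nat.card (PP K) = (p ^ n) ^ 3 := by
  have h1 : (ppf : PP K →* Multiplicative K).range = ⊤ := by
    rw [MonoidHom.range_eq_top]
    intro s
    obtain ⟨c, hc⟩ := exists_pp h (Multiplicative.toAdd s)
    exact ⟨pp _ c hc, rfl⟩
  have h2 : Nat.card (PP K) = Nat.card (ppf : PP K →* Multiplicative K).ker *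
      Nat.card (ppf : PP K →* Multiplicative K).range := by
    rw [← Nat.card_congr (QuotientGroup.quotientKerEquivRange (ppf : PP K →* Multiplicative K)).toEquiv, mul_comm]
    exact Subgroup.card_eq_card_quotient_mul_card_subgroup _
  rw [h2, card_ker_ppf h, h1, Subgroup.card_top, Nat.card_congr Multiplicative.toAdd, h.card]
  ring

theorem center_PP : Subgroup.center (PP K) = (ppf : PP K →* Multiplicative K).ker := by
  ext x
  rw [mem_ker_ppf, Subgroup.mem_center_iff]
  constructor
  · intro hx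
    by_contra h0
    obtain ⟨t, ht⟩ := exists_not_fixed h
    -- `y = (s', c')` with `s̄ s' = s s̄'` for all `s'`
    have key : ∀ s' : K, star (x : UG K).u2 * s' = (x : UG K).u2 * star s' := by
      intro s'
      obtain ⟨c', hc'⟩ := exists_pp h s'
      have h1 := hx (pp s' c' hc')
      have h2 := congrArg (fun z : PP K => (z : UG K).c) h1
      simp only [Subgroup.coe_mul, UG.mul_c, pp] at h2
      linear_combination -h2
    have h1 := key (x : UG K).u2
    have h2 := key (t * (x : UG K).u2)
    rw [star_mul'] at h2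
    have h3 : (x : UG K).u2 * star (x : UG K).u2 ≠ 0 := mul_ne_zero h0 (star_ne_zero.2 h0)
    apply ht
    apply mul_left_cancel₀ h3
    linear_combination -h2
  · intro hx y
    apply PP_ext
    · simp only [Subgroup.coe_mul, UG.mul_u2]
      ring
    · simp only [Subgroup.coe_mul, UG.mul_c, hx, star_zero]
      ring

theorem commutator_PP : commutator (PP K) = Subgroup.center (PP K) := by
  rw [center_PP h]
  apply le_antisymm
  · exact Abelianization.commutator_subset_ker _
  · intro z hz
    rw [mem_ker_ppf] at hz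
    have h1 := PP_c_mem hz
    obtain ⟨s, hs⟩ := exists_diff h h1
    obtain ⟨c, hc⟩ := exists_pp h s
    obtain ⟨c', hc'⟩ := exists_pp h (1 : K)
    have h2 := PP_comm (pp s c hc) (pp 1 c' hc') (z : UG K).c (by rw [h1, zero_mul, add_zero]) (by
      simp only [pp, star_one, mul_one]
      exact hs.symm)
    have h3 : pp 0 (z : UG K).c (by rw [h1, zero_mul, add_zero]) = z := PP_ext hz.symm rfl
    rw [h3] at h2
    have h4 : z = ⁅pp s c hc, pp 1 c' hc'⁆ := by
      rw [commutatorElement_def, h2]
      group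
    rw [h4]
    exact Subgroup.commutator_mem_commutator (Subgroup.mem_top _) (Subgroup.mem_top _)

theorem pow_PP (hp2 : p ≠ 2) (x : PP K) : x ^ p = 1 := by
  have hch := h.char
  have h2 : (2 : K) ≠ 0 := by
    intro h0
    have h1 : ((2 : ℕ) : K) = 0 := by exact_mod_cast h0
    rw [CharP.cast_eq_zero_iff K p] at h1
    exact hp2 ((Nat.prime_dvd_prime_iff_eq h.pp Nat.prime_two).1 h1)
  have key : ∀ k : ℕ, ((x ^ k : PP K) : UG K).u2 = k * (x : UG K).u2 ∧
      2 * ((x ^ k : PP K) : UG K).c = 2 * k * (x : UG K).c - k * (k - 1) * ((x : UG K).u2 * star (x : UG K).u2) := by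
    intro k
    induction k with
    | zero => simp
    | succ k ih =>
      obtain ⟨i1, i2⟩ := ih
      rw [pow_succ, Subgroup.coe_mul, UG.mul_u2, UG.mul_c, i1]
      constructor
      · push_cast; ring
      · push_cast
        linear_combination i2
  obtain ⟨h3, h4⟩ := key p
  have hp0 : (p : K) = 0 := CharP.cast_eq_zero K p
  rw [hp0] at h3 h4
  apply PP_ext
  · rw [h3, zero_mul]; rfl
  · have h5 : 2 * ((x ^ p : PP K) : UG K).c = 0 := by rw [h4]; ring
    exact (mul_eq_zero.1 h5).resolve_left h2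

/-- transport to an isomorphic group -/
theorem heis_facts {P : Type v} [Group P] (e : PP K ≃* P) : Nat.card P = (p ^ n) ^ 3 ∧
    Nat.card (Subgroup.center P) = p ^ n ∧ commutator P = Subgroup.center P ∧ (p ≠ 2 → ∀ x : P, x ^ p = 1) := by
  have hc : ∀ x : PP K, e x ∈ Subgroup.center P ↔ x ∈ Subgroup.center (PP K) := by
    intro x
    rw [Subgroup.mem_center_iff, Subgroup.mem_center_iff]
    constructor
    · intro hx y
      apply e.injective
      rw [map_mul, map_mul]
      exact hx (e y)
    · intro hx y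
      obtain ⟨y, rfl⟩ := e.surjective y
      rw [← map_mul, ← map_mul, hx y]
  have hm : (Subgroup.center (PP K)).map e.toMonoidHom = Subgroup.center P := by
    ext y
    obtain ⟨x, rfl⟩ := e.surjective y
    rw [hc]
    constructor
    · rintro ⟨x', hx', hxx⟩
      rwa [e.injective hxx] at hx'
    · exact fun hx => ⟨x, hx, rfl⟩
  refine ⟨?_, ?_, ?_, ?_⟩
  · rw [← Nat.card_congr e.toEquiv, card_PP h]
  · rw [← hm, Subgroup.card_map_of_injective e.injective, center_PP h, card_ker_ppf h]
  · rw [← hm, ← commutator_PP h, commutator_def, commutator_def, Subgroup.map_commutator]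
    have h1 : (⊤ : Subgroup (PP K)).map e.toMonoidHom = ⊤ := Subgroup.map_top_of_surjective _ e.surjective
    rw [h1]
  · intro hp2 y
    obtain ⟨x, rfl⟩ := e.surjective y
    rw [← map_pow, pow_PP h hp2, map_one]

end

end Cfsg.Agent.H440.PU
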