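import Cfsg.Agent.H440.PU.Geo

/-!
# S5258: (L1a) for `q > 2` (helper440)
-/

set_option autoImplicit false

namespace Cfsg.Agent.H440.PU

open Cfsg Cfsg.FusionSystem Cfsg.Agent.H756.PU

universe u v

variable {K : Type u} [Field K] [StarRing K] {p n : ℕ}

section

variable (h : HypK K p n)

theorem rho_W1 {κ : K} {γ : MulAut (Q1 K)} (hγ : IsW1 κ γ) (w : K × K × K) :
    rho h γ w = (-κ⁻¹ * w.2.2, w.2.1, κ * w.1) := by
  obtain ⟨e, rfl⟩ := exists_lift h w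
  rw [rho_pr]
  unfold pr
  rw [hγ.r, hγ.u1, hγ.b]

theorem exists_mm (s c : K) (hc : c + star c + s * star s = 0) :
    ∃ f ∈ Pt h, ∀ w : K × K × K, f w = (w.1, w.2.1 - s * w.1, w.2.2 + star s * w.2.1 + c * w.1) := by
  refine ⟨rho h (cj (pp s (star c) (by rw [star_star]; linear_combination hc) : PP K)), cj_mem_Pt h _, fun w => ?_⟩
  rw [rho_cj]
  show (w.1, w.2.1 - s * w.1, w.2.2 + star s * w.2.1 + star (star c) * w.1) = _
  rw [star_star]

variable {Γ : Subgroup (MulAut (Q1 K))} {D : Subgroup (MulAut (UG K))}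

theorem W1_mem (hP : Par p (Q1 K) Γ D) {nu : Equiv.Perm (K × K × K)} (hnu : nu ∈ Gt h Γ) {κ : K} (hκ0 : κ ≠ 0)
    (hκ : κ + star κ = 0) (hw : ∀ w, nu w = (-κ⁻¹ * w.2.2, w.2.1, κ * w.1)) {κ' : K} {γ : MulAut (Q1 K)}
    (hγ : IsW1 κ' γ) : rho h γ ∈ Gt h Γ := by
  have hκ'0 := hγ.ne
  have hκ' := hγ.tr
  have hsκ : star κ = -κ := by linear_combination hκ
  have hsκ' : star κ' = -κ' := by linear_combination hκ'
  obtain ⟨f, hf, hfw⟩ := exists_mm h 0 κ' (by rw [hκ', zero_mul, zero_add])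
  obtain ⟨g, hg, hgw⟩ := exists_mm h 0 (κ * κ * κ'⁻¹) (by
    rw [star_mul', star_mul', star_inv₀, hsκ, hsκ', inv_neg]
    ring)
  have hinv : ∀ w, nu⁻¹ w = (κ⁻¹ * w.2.2, w.2.1, -κ * w.1) := by
    intro w
    show nu.symm w = _
    rw [Equiv.symm_apply_eq, hw]
    refine Prod.ext ?_ (Prod.ext rfl ?_)
    · field_simp
    · field_simp
  have key : rho h γ = f * (nu * g * nu⁻¹) * f := by
    ext1 w
    rw [rho_W1 h hγ, Equiv.Perm.mul_apply, Equiv.Perm.mul_apply, Equiv.Perm.mul_apply, Equiv.Perm.mul_apply, hfw, hinv,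
      hgw, hw, hfw]
    simp only [star_zero, zero_mul, add_zero, sub_zero]
    refine Prod.ext ?_ (Prod.ext rfl ?_)
    · field_simp
      ring
    · field_simp
      ring
  rw [key]
  have hfG := Pt_le h hP hf
  exact mul_mem (mul_mem hfG (mul_mem (mul_mem hnu (Pt_le h hP hg)) (inv_mem hnu))) hfG

/-- the torus of `SU₃` -/
theorem ht_mem (hP : Par p (Q1 K) Γ D) {nu : Equiv.Perm (K × K × K)} (hnu : nu ∈ Gt h Γ) {κ : K} (hκ0 : κ ≠ 0)
    (hκ : κ + star κ = 0) (hw : ∀ w, nu w = (-κ⁻¹ * w.2.2, w.2.1, κ * w.1)) {t : K} (ht : t ≠ 0) :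
    ∃ f ∈ Gt h Γ, ∀ w, f w = (t⁻¹ * w.1, t * (star t)⁻¹ * w.2.1, star t * w.2.2) := by
  have hsκ : star κ = -κ := by linear_combination hκ
  have hst : star t ≠ 0 := star_ne_zero.2 ht
  obtain ⟨s, hs⟩ := exists_norm h (a := κ * (star t)⁻¹ - κ * t⁻¹) (by
    rw [star_sub, star_mul', star_mul', star_inv₀, star_inv₀, star_star, hsκ]
    ring)
  have hs' : s * star s * (t * star t) = κ * t - κ * star t := by
    rw [hs]
    field_simp
  obtain ⟨f1, hf1, hw1⟩ := exists_mm h (s * t) (κ * star t) (by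
    rw [star_mul', star_star, hsκ, star_mul']
    linear_combination hs')
  obtain ⟨f2, hf2, hw2⟩ := exists_mm h s (κ * t⁻¹) (by
    rw [star_mul', star_inv₀, hsκ, hs]
    ring)
  obtain ⟨f3, hf3, hw3⟩ := exists_mm h (-(s * star t)) (κ * star t) (by
    rw [star_mul', star_star, hsκ, star_neg, star_mul', star_star]
    linear_combination hs')
  have hinv : ∀ w, nu⁻¹ w = (κ⁻¹ * w.2.2, w.2.1, -κ * w.1) := by
    intro w
    show nu.symm w = _
    rw [Equiv.symm_apply_eq, hw]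
    refine Prod.ext ?_ (Prod.ext rfl ?_)
    · field_simp
    · field_simp
  refine ⟨f1 * nu * f2 * nu⁻¹ * f3 * nu⁻¹, ?_, fun w => ?_⟩
  · have g1 := Pt_le h hP hf1
    have g2 := Pt_le h hP hf2
    have g3 := Pt_le h hP hf3
    exact mul_mem (mul_mem (mul_mem (mul_mem (mul_mem g1 hnu) g2) (inv_mem hnu)) g3) (inv_mem hnu)
  · simp only [Equiv.Perm.mul_apply, hw1, hw2, hw3, hinv, hw, star_neg, star_mul', star_star]
    refine Prod.ext ?_ (Prod.ext ?_ ?_)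
    · field_simp
      linear_combination (-w.2.2) * hs'
    · field_simp
      linear_combination (star t * s * w.2.2 + κ * w.2.1) * hs'
    · field_simp
      linear_combination (-(-(κ * w.1) - star s * t * w.2.1 + star t * w.2.2)) * hs'

/-- elements of `G` normalizing `P` -/
theorem normal_form (hG : StGrp.{u}) (hP : Par p (Q1 K) Γ D) {g : Equiv.Perm (K × K × K)} (hg : g ∈ Gt h Γ)
    (hU : g '' U0s K = U0s K) :
    ∃ z : UG K, ∃ d ∈ D, ∃ δ : MulAut (Q1 K), IsR d δ ∧ g = rho h (cj z * δ) ∧ ∃ x1 x2 τ, IsTor d x1 x2 τ := by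
  obtain ⟨γ, hγ, rfl⟩ := hg
  obtain ⟨z, d, hd, δ, hδ, h1, h2⟩ := norm_form h hP hG hγ (fun x hx => conj_mem_of_U0 h hP ⟨_, hγ, rfl⟩ hU hx)
  exact ⟨z, d, hd, δ, hδ, by rw [h1], h2⟩

include h in
/-- **(L1a) for `q > 2`** -/
theorem l1a_main (hU3 : StU3.{u}) (hG : StGrp.{u}) (h2 : p ^ n ≠ 2) (hP : Par p (Q1 K) Γ D)
    (hT : HasTor D (fun t => t) (fun t => t⁻¹)) :
    HasTor D (fun t => t * (star t)⁻¹) (fun t => t ^ 2 * (star t)⁻¹) ∧
    (∀ l ∈ Lam1 K, ∃ γ ∈ Γ, ∀ e : Q1 K, ((γ e : Q1 K) : UG K).r = ((l e : Q1 K) : UG K).r ∧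
      ((γ e : Q1 K) : UG K).u1 = ((l e : Q1 K) : UG K).u1 ∧ ((γ e : Q1 K) : UG K).b = ((l e : Q1 K) : UG K).b) ∧
    (∀ γ ∈ Γ, ∃ l ∈ Lam1 K, ∃ d ∈ D, ∃ δ : MulAut (Q1 K), IsR d δ ∧
      ∀ e : Q1 K, ((γ e : Q1 K) : UG K).r = (((l * δ) e : Q1 K) : UG K).r ∧
      ((γ e : Q1 K) : UG K).u1 = (((l * δ) e : Q1 K) : UG K).u1 ∧
      ((γ e : Q1 K) : UG K).b = (((l * δ) e : Q1 K) : UG K).b) := by
  have hfin := h.fin
  obtain ⟨nu, hnu, ⟨κ, hκ0, hκ, hw⟩, hP1⟩ := nu_facts h hU3 hG h2 hP hT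
  have hcoord : ∀ {γ γ' : MulAut (Q1 K)}, rho h γ = rho h γ' → ∀ e : Q1 K,
      ((γ e : Q1 K) : UG K).r = ((γ' e : Q1 K) : UG K).r ∧ ((γ e : Q1 K) : UG K).u1 = ((γ' e : Q1 K) : UG K).u1 ∧
      ((γ e : Q1 K) : UG K).b = ((γ' e : Q1 K) : UG K).b := by
    intro γ γ' h1 e
    have h3 := pr_of_rho h h1 e
    exact ⟨congrArg (fun w : K × K × K => w.1) h3, congrArg (fun w : K × K × K => w.2.1) h3,
      congrArg (fun w : K × K × K => w.2.2) h3⟩
  refine ⟨?_, ?_, ?_⟩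
  · intro t ht α hα
    obtain ⟨f, hf, hfw⟩ := ht_mem h hP hnu hκ0 hκ hw ht
    have hfU : f '' U0s K = U0s K := by
      apply image_eq_of_subset
      rintro w ⟨h3, h4⟩
      rw [hfw, h3, h4]
      exact ⟨mul_zero _, mul_zero _⟩
    obtain ⟨z, d, hd, δ, hδ, hfz, x1, x2, τ, hτ⟩ := normal_form h hG hP hf hfU
    have hst : star t ≠ 0 := star_ne_zero.2 ht
    have key : ∀ w : K × K × K, (t⁻¹ * w.1, t * (star t)⁻¹ * w.2.1, star t * w.2.2) =
        rho h (cj z) (rho h δ w) := by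
      intro w
      rw [← hfw, hfz, map_mul]
      rfl
    have hst2 : star x2 ≠ 0 := star_ne_zero.2 hτ.ne2
    have e3 : x1 * star x2 = star t := by
      have h3 := congrArg (fun w : K × K × K => w.2.2) (key (0, 0, 1))
      rw [rho_cj, rho_tor h hτ hδ] at h3
      simp only [map_zero, mul_zero, add_zero, map_one, mul_one] at h3
      exact h3.symm
    have eτ : ∀ b, τ b = b := by
      intro b
      have h3 := congrArg (fun w : K × K × K => w.2.2) (key (0, 0, b))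
      rw [rho_cj, rho_tor h hτ hδ] at h3
      simp only [map_zero, mul_zero, add_zero] at h3
      rw [e3] at h3
      exact (mul_left_cancel₀ hst h3).symm
    have e1 : x1 = t * (star t)⁻¹ := by
      have h3 := congrArg (fun w : K × K × K => w.2.1) (key (0, 1, 0))
      rw [rho_cj, rho_tor h hτ hδ] at h3
      simp only [map_zero, mul_zero, sub_zero, map_one, mul_one] at h3
      exact h3.symm
    have e2 : x2 = t ^ 2 * (star t)⁻¹ := by
      have h3 := congrArg (fun w : K × K × K => w.1) (key (1, 0, 0))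
      rw [rho_cj, rho_tor h hτ hδ] at h3
      simp only [map_one, mul_one] at h3
      have hx2 := hτ.ne2
      have h4 : x2 = t * x1 := by
        field_simp at h3
        linear_combination h3
      rw [h4, e1]
      ring
    have hτ1 : τ = RingEquiv.refl K := RingEquiv.ext eτ
    rw [hτ1, e1, e2] at hτ
    rw [tor_ext hα hτ]
    exact hd
  · intro l hl
    have h3 : Lam1 K ≤ (Gt h Γ).comap (rho h) := by
      refine sup_le (fun x hx => Pt_le h hP ⟨x, hx, rfl⟩) ?_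
      rw [Subgroup.closure_le]
      rintro γ ⟨κ', hγ⟩
      exact W1_mem h hP hnu hκ0 hκ hw hγ
    obtain ⟨γ, hγ, h4⟩ := h3 hl
    exact ⟨γ, hγ, hcoord h4⟩
  · intro γ hγ
    have hcjL : ∀ z : UG K, cj z ∈ Lam1 K := fun z => Subgroup.mem_sup_left (cj_mem z)
    by_cases hU : rho h γ '' U0s K = U0s K
    · obtain ⟨z, d, hd, δ, hδ, h3, -⟩ := normal_form h hG hP ⟨γ, hγ, rfl⟩ hU
      exact ⟨cj z, hcjL z, d, hd, δ, hδ, hcoord h3⟩
    · obtain ⟨x, hx, m, hm, hmU, h3⟩ := hP1 _ ⟨γ, hγ, rfl⟩ hU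
      obtain ⟨z, d, hd, δ, hδ, h4, -⟩ := normal_form h hG hP hm hmU
      obtain ⟨y, hy⟩ := (mem_Pt_iff h x).1 hx
      obtain ⟨ω, hω⟩ := (hG h).2.2.2.2.2 κ hκ0 hκ
      have h5 : nu = rho h ω := by
        ext1 w
        rw [hw, rho_W1 h hω]
      refine ⟨cj y * ω * cj z, ?_, d, hd, δ, hδ, hcoord ?_⟩
      · exact mul_mem (mul_mem (hcjL _) (Subgroup.mem_sup_right (Subgroup.subset_closure ⟨κ, hω⟩))) (hcjL _)
      · rw [h3, h4, hy, h5]
        simp only [map_mul, mul_assoc]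

end

/-- **PU-L1a**: (L1a) for `q > 2` from (U3) and (GRP) -/
theorem l1a_of (hU3 : StU3.{u}) (hG : StGrp.{u}) :
    ∀ {K : Type u} [Field K] [StarRing K] {p n : ℕ}, HypK K p n → p ^ n ≠ 2 →
      ∀ (Γ : Subgroup (MulAut (Q1 K))) (D : Subgroup (MulAut (UG K))), Par p (Q1 K) Γ D →
      HasTor D (fun t => t) (fun t => t⁻¹) →
      HasTor D (fun t => t * (star t)⁻¹) (fun t => t ^ 2 * (star t)⁻¹) ∧
      (∀ l ∈ Lam1 K, ∃ γ ∈ Γ, ∀ e : Q1 K, ((γ e : Q1 K) : UG K).r = ((l e : Q1 K) : UG K).r ∧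
        ((γ e : Q1 K) : UG K).u1 = ((l e : Q1 K) : UG K).u1 ∧ ((γ e : Q1 K) : UG K).b = ((l e : Q1 K) : UG K).b) ∧
      (∀ γ ∈ Γ, ∃ l ∈ Lam1 K, ∃ d ∈ D, ∃ δ : MulAut (Q1 K), IsR d δ ∧
        ∀ e : Q1 K, ((γ e : Q1 K) : UG K).r = (((l * δ) e : Q1 K) : UG K).r ∧
        ((γ e : Q1 K) : UG K).u1 = (((l * δ) e : Q1 K) : UG K).u1 ∧
        ((γ e : Q1 K) : UG K).b = (((l * δ) e : Q1 K) : UG K).b) :=
  fun h h2 _ _ hP hT => l1a_main h hU3 hG h2 hP hT

end Cfsg.Agent.H440.PU
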