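import Cfsg.Agent.H440.PU.Syl
import Cfsg.Agent.H440.PU.Core
import Cfsg.Agent.H756.PU.Stmts

/-!
# S5258 (PU-L1a): the kernel of the action on `W` and the normalizer of the Sylow subgroup (helper440)
-/

set_option autoImplicit false

namespace Cfsg.Agent.H440.PU

open Cfsg Cfsg.FusionSystem Cfsg.Agent.H756.PU

universe u v

variable {K : Type u} [Field K] [StarRing K] {p n : ℕ}

theorem tor_mem {α : MulAut (UG K)} {x1 x2 : K} {τ : K ≃+* K} (hα : IsTor α x1 x2 τ) (e : UG K) :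
    e ∈ Q1 K ↔ α e ∈ Q1 K := by
  show (e.u2 = 0 ∧ e.c = 0) ↔ ((α e).u2 = 0 ∧ (α e).c = 0)
  rw [hα.u2, hα.c]
  have h1 := hα.ne2
  have h2 : star x2 ≠ 0 := star_ne_zero.2 h1
  simp [h1, h2]

/-- restriction to `Q₁` -/
def res (α : MulAut (UG K)) (hα : ∀ e, e ∈ Q1 K ↔ α e ∈ Q1 K) : MulAut (Q1 K) where
  toFun e := ⟨α e, (hα e).1 e.2⟩
  invFun e := ⟨α.symm e, (hα _).2 (by rw [α.apply_symm_apply]; exact e.2)⟩
  left_inv e := Subtype.ext (α.symm_apply_apply _)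
  right_inv e := Subtype.ext (α.apply_symm_apply _)
  map_mul' e f := Subtype.ext (map_mul α _ _)

theorem res_isR (α : MulAut (UG K)) (hα : ∀ e, e ∈ Q1 K ↔ α e ∈ Q1 K) : IsR α (res α hα) := fun _ => rfl

theorem tor_ext {α β : MulAut (UG K)} {x1 x2 : K} {τ : K ≃+* K} (hα : IsTor α x1 x2 τ) (hβ : IsTor β x1 x2 τ) :
    α = β := by
  refine MulEquiv.ext fun g => UG.ext ?_ ?_ ?_ ?_ ?_ ?_
  · rw [hα.r, hβ.r]
  · rw [hα.u1, hβ.u1]
  · rw [hα.u2, hβ.u2]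
  · rw [hα.a, hβ.a]
  · rw [hα.b, hβ.b]
  · rw [hα.c, hβ.c]

section

variable (h : HypK K p n)

theorem rho_tor {α : MulAut (UG K)} {x1 x2 : K} {τ : K ≃+* K} (hα : IsTor α x1 x2 τ) {δ : MulAut (Q1 K)}
    (hδ : IsR α δ) (w : K × K × K) :
    rho h δ w = (x1 * x2⁻¹ * τ w.1, x1 * τ w.2.1, x1 * star x2 * τ w.2.2) := by
  obtain ⟨e, rfl⟩ := exists_lift h w
  rw [rho_pr]
  unfold pr
  rw [hδ e, hα.r, hα.u1, hα.b]

variable {Γ : Subgroup (MulAut (Q1 K))} {D : Subgroup (MulAut (UG K))} (hP : Par p (Q1 K) Γ D)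
include hP

/-- the kernel of `Γ` on `W` is contained in `Aut_S(Q₁)` -/
theorem ker_mem {γ : MulAut (Q1 K)} (hγ : γ ∈ Γ) (h1 : rho h γ = 1) : γ ∈ autInducedBy ⊤ (Q1 K) := by
  let R : Subgroup (MulAut (Q1 K)) := Γ ⊓ (rho h).ker
  have hR : IsPGroup p R := by
    rintro ⟨x, hx⟩
    exact ⟨1, Subtype.ext (by rw [pow_one]; exact pow_of_rho_eq_one h hx.2)⟩
  obtain ⟨g, hg, hgR⟩ := hP.syl R inf_le_left hR
  have h2 : g⁻¹ * γ * g ∈ R := by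
    refine Subgroup.mem_inf.2 ⟨Γ.mul_mem (Γ.mul_mem (Γ.inv_mem hg) hγ) hg, ?_⟩
    rw [MonoidHom.mem_ker, map_mul, map_mul, h1, mul_one, map_inv, inv_mul_cancel]
  have h3 := hgR _ h2
  have h4 : g * (g⁻¹ * γ * g) * g⁻¹ = γ := by group
  rwa [h4] at h3

theorem normAut_of {γ : MulAut (Q1 K)} (hγ : γ ∈ Γ) (h1 : ∀ x ∈ Pt h, rho h γ * x * (rho h γ)⁻¹ ∈ Pt h) :
    NormAut ⊤ γ := by
  intro x hx
  have h2 := h1 (rho h x) ⟨x, hx, rfl⟩
  obtain ⟨a, ha, hax⟩ := h2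
  have h3 : rho h (a⁻¹ * (γ * x * γ⁻¹)) = 1 := by
    rw [map_mul, map_inv, hax, map_mul, map_mul, map_inv, inv_mul_cancel]
  have h4 := ker_mem h hP (mul_mem (inv_mem (hP.indu ha)) (mul_mem (mul_mem hγ (hP.indu hx)) (inv_mem hγ))) h3
  have h5 := mul_mem ha h4
  rwa [mul_inv_cancel_left] at h5

theorem norm_form (hG : StGrp.{u}) {γ : MulAut (Q1 K)} (hγ : γ ∈ Γ)
    (h1 : ∀ x ∈ Pt h, rho h γ * x * (rho h γ)⁻¹ ∈ Pt h) :
    ∃ z : UG K, ∃ d ∈ D, ∃ δ : MulAut (Q1 K), IsR d δ ∧ γ = cj z * δ ∧ ∃ x1 x2 τ, IsTor d x1 x2 τ := by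
  obtain ⟨z, d, hd, hz⟩ := hP.norm γ hγ (normAut_of h hP hγ h1)
  obtain ⟨x1, x2, τ, ht⟩ := (hG h).2.2.2.1 d (hP.D_le hd)
  refine ⟨z, d, hd, res d (tor_mem ht), fun e => rfl, ?_, x1, x2, τ, ht⟩
  refine MulEquiv.ext fun e => Subtype.ext ?_
  rw [hz e]
  rfl

/-- elements of `G` preserving the line `U₀` normalize `P` -/
theorem conj_mem_of_U0 {g : Equiv.Perm (K × K × K)} (hg : g ∈ Gt h Γ) (hU0 : g '' U0s K = U0s K)
    {x : Equiv.Perm (K × K × K)} (hx : x ∈ Pt h) : g * x * g⁻¹ ∈ Pt h :=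
  conj_mem_of_image h hP hg hU0 (image_U1_of h hg hU0) hx

theorem mem_norm_of_U0 {g : Gt h Γ} (hU0 : (g : Equiv.Perm (K × K × K)) '' U0s K = U0s K) :
    g ∈ Subgroup.normalizer ((Sy h hP : Subgroup (Gt h Γ)) : Set (Gt h Γ)) := by
  have hinv : ((g⁻¹ : Gt h Γ) : Equiv.Perm (K × K × K)) '' U0s K = U0s K := by
    conv_lhs => rw [← hU0]
    rw [← Set.image_comp]
    convert Set.image_id _
    ext1 w
    exact (g : Equiv.Perm (K × K × K)).symm_apply_apply w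
  rw [Subgroup.mem_normalizer_iff]
  intro x
  constructor
  · intro hx
    exact conj_mem_of_U0 h hP g.2 hU0 hx
  · intro hx
    have h1 := conj_mem_of_U0 h hP (g⁻¹).2 hinv hx
    have h2 : x = g⁻¹ * (g * x * g⁻¹) * g⁻¹⁻¹ := by group
    rw [h2]
    exact h1

theorem U0_of_mem_norm {g : Gt h Γ} (hg : g ∈ Subgroup.normalizer ((Sy h hP : Subgroup (Gt h Γ)) : Set (Gt h Γ))) :
    (g : Equiv.Perm (K × K × K)) '' U0s K = U0s K := by
  rw [Subgroup.mem_normalizer_iff] at hg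
  let z : PP K := pp 1 (exists_pp h 1).choose (exists_pp h 1).choose_spec
  have hz1 : phi h z ≠ 1 := by
    intro h0
    have h1 := phi_injective h (h0.trans (map_one _).symm)
    have h2 : (1 : K) = 0 := congrArg (fun y : PP K => (y : UG K).u2) h1
    exact one_ne_zero h2
  have hz : phi h z ∈ Pt h := cj_mem_Pt h _
  have h3 := (hg ⟨phi h z, Pt_le h hP hz⟩).1 hz
  exact (ti h hP g.2 hz hz1 h3).1

end

end Cfsg.Agent.H440.PU
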