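import Cfsg.Agent.H440.PU.Norm
import Cfsg.Agent.H562.FpfWeights2

/-!
# S5258 (PU-L1a): the application of (U3) and the invariant opposite Sylow subgroup (helper440)
-/

set_option autoImplicit false

namespace Cfsg.Agent.H440.PU

open Cfsg Cfsg.FusionSystem Cfsg.Agent.H756.PU
open scoped Pointwise

universe u v

variable {K : Type u} [Field K] [StarRing K] {p n : ℕ}

section

variable (h : HypK K p n) {Γ : Subgroup (MulAut (Q1 K))} {D : Subgroup (MulAut (UG K))}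

theorem card_Gt_dvd : Nat.card (Gt h Γ) ∣ Nat.card (GL (Fin (6 * n)) (ZMod p)) := by
  have hfin := h.fin
  have : Fact p.Prime := ⟨h.pp⟩
  have := h.char
  let _ := ZMod.algebra K p
  have hfr : Module.finrank (ZMod p) (K × K × K) = 6 * n := by
    have h1 := Module.natCard_eq_pow_finrank (K := ZMod p) (V := K × K × K)
    rw [Nat.card_prod, Nat.card_prod, h.card, Nat.card_zmod] at h1
    have h2 : (p ^ n) ^ 2 * ((p ^ n) ^ 2 * (p ^ n) ^ 2) = p ^ (6 * n) := by
      rw [← pow_add, ← pow_add, ← pow_mul]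
      congr 1
      ring
    rw [h2] at h1
    exact (Nat.pow_right_injective h.pp.two_le h1).symm
  let b := Module.finBasisOfFinrankEq (ZMod p) (K × K × K) hfr
  let f : Gt h Γ →* ((K × K × K) →ₗ[ZMod p] (K × K × K)) :=
    { toFun := fun g => AddMonoidHom.toZModLinearMap p (AddMonoidHom.mk' (g : Equiv.Perm (K × K × K)) (Gt_add h g.2))
      map_one' := by
        ext1 <;> rfl
      map_mul' := fun g g' => by
        refine LinearMap.ext fun w => ?_
        rfl }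
  let F : Gt h Γ →* GL (Fin (6 * n)) (ZMod p) :=
    MonoidHom.toHomUnits ((LinearMap.toMatrixAlgEquiv b).toRingEquiv.toMulEquiv.toMonoidHom.comp f)
  have hF : Function.Injective F := by
    intro g g' hgg
    have h1 : LinearMap.toMatrixAlgEquiv b (f g) = LinearMap.toMatrixAlgEquiv b (f g') := congrArg Units.val hgg
    have h2 := (LinearMap.toMatrixAlgEquiv b).injective h1
    refine Subtype.ext (Equiv.ext fun w => ?_)
    exact congrArg (fun l : (K × K × K) →ₗ[ZMod p] (K × K × K) => l w) h2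
  exact Subgroup.card_dvd_of_injective F hF

theorem central_form {x : Equiv.Perm (K × K × K)} (hx : x ∈ Pt h) (hc : ∀ z ∈ Pt h, x * z = z * x) :
    ∃ κ : K, κ + star κ = 0 ∧ ∀ w, x w = (w.1, w.2.1, w.2.2 + κ * w.1) := by
  obtain ⟨z, rfl⟩ := (mem_Pt_iff h x).1 hx
  have hz : z ∈ Subgroup.center (PP K) := by
    rw [Subgroup.mem_center_iff]
    intro z'
    apply phi_injective h
    rw [map_mul, map_mul]
    exact (hc _ (cj_mem_Pt h z')).symm
  rw [center_PP h, mem_ker_ppf] at hz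
  refine ⟨star (z : UG K).c, ?_, fun w => ?_⟩
  · have := PP_c_mem hz
    rw [star_star, add_comm]
    exact this
  · rw [rho_cj, hz]
    simp

/-- `P` preserves the form -/
theorem om_Pt {x : Equiv.Perm (K × K × K)} (hx : x ∈ Pt h) (w w' : K × K × K) : om (x w) (x w') = om w w' := by
  obtain ⟨z, rfl⟩ := (mem_Pt_iff h x).1 hx
  rw [rho_cj, rho_cj]
  have hc := (z : UG K).hc
  simp only [om, hh, star_add, star_sub, star_mul', star_star]
  linear_combination (star w.1 * w'.1 - w.1 * star w'.1) * hc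

omit [Field K] [StarRing K] in
theorem image_eq_of_subset [Finite K] {f : Equiv.Perm (K × K × K)} {s : Set (K × K × K)} (hs : ∀ w ∈ s, f w ∈ s) :
    f '' s = s := by
  refine Set.eq_of_subset_of_ncard_le (Set.image_subset_iff.2 hs) ?_ (Set.toFinite _)
  rw [Set.ncard_image_of_injective _ f.injective]

/-- the isomorphism of the group of pairs with the Sylow subgroup -/
noncomputable def eP (hP : Par p (Q1 K) Γ D) : PP K ≃* (Sy h hP : Subgroup (Gt h Γ)) :=
  ((MonoidHom.ofInjective (phi_injective h)).trans (MulEquiv.subgroupCongr (phi_range h))).trans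
    (Subgroup.subgroupOfEquivOfLe (Pt_le h hP)).symm

include h in
theorem DQ (hG : StGrp.{u}) (hP : Par p (Q1 K) Γ D) {d : MulAut (UG K)} (hd : d ∈ D) (e : UG K) :
    e ∈ Q1 K ↔ d e ∈ Q1 K := by
  obtain ⟨x1, x2, τ, ht⟩ := (hG h).2.2.2.1 d (hP.D_le hd)
  exact tor_mem ht e

/-- the action of `D` on `W` -/
noncomputable def thD (hG : StGrp.{u}) (hP : Par p (Q1 K) Γ D) : D →* Gt h Γ where
  toFun d := ⟨rho h (res d (DQ h hG hP d.2)), ⟨_, hP.D_res d d.2 _ (res_isR _ _), rfl⟩⟩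
  map_one' := Subtype.ext (by
    show rho h _ = 1
    rw [← map_one (rho h)]
    congr 1)
  map_mul' d d' := Subtype.ext (by
    show rho h _ = rho h _ * rho h _
    rw [← map_mul]
    congr 1)

theorem tor_U0 {α : MulAut (UG K)} {x1 x2 : K} {τ : K ≃+* K} (hα : IsTor α x1 x2 τ) {δ : MulAut (Q1 K)}
    (hδ : IsR α δ) : rho h δ '' U0s K = U0s K := by
  have hfin := h.fin
  apply image_eq_of_subset
  rintro w ⟨h1, h2⟩
  rw [rho_tor h hα hδ, h1, h2]
  refine ⟨?_, ?_⟩ <;> simp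

/-- the facts about the opposite Sylow subgroup -/
theorem opp_facts (hU3 : StU3.{u}) (hG : StGrp.{u}) (h2 : p ^ n ≠ 2) (hP : Par p (Q1 K) Γ D) :
    ∃ nu x y' : Equiv.Perm (K × K × K), nu ∈ Gt h Γ ∧ x ∈ Pt h ∧ (∀ z ∈ Pt h, x * z = z * x) ∧ y' ∈ Pt h ∧
      (∀ z ∈ Pt h, y' * z = z * y') ∧ nu = x * (nu * y' * nu⁻¹) * x ∧ nu '' U0s K ≠ U0s K ∧
      nu '' (nu '' U0s K) = U0s K ∧
      (∀ d ∈ D, ∀ δ : MulAut (Q1 K), IsR d δ → rho h δ '' (nu '' U0s K) = nu '' U0s K) ∧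
      (∀ g ∈ Gt h Γ, g '' U0s K ≠ U0s K → ∃ x ∈ Pt h, ∃ m ∈ Gt h Γ, m '' U0s K = U0s K ∧ g = x * nu * m) ∧
      (p ^ n = 3 → ∃ g ∈ Gt h Γ, g '' U0s K = U0s K ∧ (∀ w w', om (g w) (g w') = om w w') ∧
        ∀ k : ℕ, 0 < k → k < 8 → ∃ x ∈ Pt h, ∃ y ∈ Pt h,
          (g ^ k * x * (g ^ k)⁻¹ * x⁻¹) * y ≠ y * (g ^ k * x * (g ^ k)⁻¹ * x⁻¹)) := by
  have hfin := h.fin
  have hfact : Fact p.Prime := ⟨h.pp⟩
  have hq : 2 < p ^ n := by
    have := one_lt_q h
    omega
  obtain ⟨f1, f2, f3, f4⟩ := heis_facts h (eP h hP)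
  have hsm : ∀ (g : Gt h Γ) (Q : Sylow p (Gt h Γ)),
      ((g • Q : Sylow p (Gt h Γ)) : Subgroup (Gt h Γ)) = (Q : Subgroup (Gt h Γ)).map (MulAut.conj g).toMonoidHom :=
    fun g Q => rfl
  have hnn : ¬ (Sy h hP : Subgroup (Gt h Γ)).Normal := by
    intro hn
    apply hP.nn
    intro γ hγ
    apply normAut_of h hP hγ
    intro x hx
    exact hn.conj_mem ⟨x, Pt_le h hP hx⟩ hx ⟨rho h γ, γ, hγ, rfl⟩
  obtain ⟨a1, a2, a3⟩ := hU3 (G := Gt h Γ) (n := n) (Sy h hP) h.hn hq (by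
    intro g hg x hx hgx
    by_contra hx1
    apply hg
    apply mem_norm_of_U0
    exact (ti h hP g.2 hx (fun h0 => hx1 (Subtype.ext h0)) hgx).1) hnn f1 f2 f3 f4 (card_Gt_dvd h)
  -- a Sylow subgroup different from `P`
  obtain ⟨P0, hP0⟩ : ∃ P0 : Sylow p (Gt h Γ), P0 ≠ Sy h hP := by
    by_contra hall
    push Not at hall
    apply hnn
    rw [← Subgroup.normalizer_eq_top_iff, eq_top_iff]
    intro g _
    exact Sylow.smul_eq_iff_mem_normalizer.1 (hall (g • Sy h hP))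
  have hnorm : ∀ g : Gt h Γ, g • Sy h hP = Sy h hP ↔ (g : Equiv.Perm (K × K × K)) '' U0s K = U0s K := by
    intro g
    rw [Sylow.smul_eq_iff_mem_normalizer]
    exact ⟨U0_of_mem_norm h hP, mem_norm_of_U0 h hP⟩
  have hPn : ∀ g ∈ (Sy h hP : Subgroup (Gt h Γ)), g • Sy h hP = Sy h hP := by
    intro g hg
    rw [Sylow.smul_eq_iff_mem_normalizer]
    exact Subgroup.le_normalizer hg
  let A : Subgroup (Gt h Γ) := (thD h hG hP).range
  have hAn : ∀ a ∈ A, a • Sy h hP = Sy h hP := by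
    rintro _ ⟨d, rfl⟩
    obtain ⟨x1, x2, τ, ht⟩ := (hG h).2.2.2.1 d (hP.D_le d.2)
    rw [hnorm]
    exact tor_U0 h ht (res_isR _ _)
  have hcop : (Nat.card A).Coprime (Nat.card (Sy h hP : Subgroup (Gt h Γ))) := by
    rw [f1]
    refine Nat.Coprime.pow_right _ (Nat.Coprime.pow_right _ ?_)
    exact Nat.Coprime.coprime_dvd_left (Subgroup.card_range_dvd _) hP.D_cop
  have hsol : Group.IsSolvable (Sy h hP : Subgroup (Gt h Γ)) := by
    have := (Sy h hP).isPGroup'.isNilpotent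
    infer_instance
  obtain ⟨x0, hx0, hA⟩ := H562.FpfWeights.glauberman (Sy h hP : Subgroup (Gt h Γ)) A (by
    intro a ha y hy
    have h3 := Sylow.smul_eq_iff_mem_normalizer.1 (hAn a ha)
    exact (Subgroup.mem_normalizer_iff.1 h3 y).1 hy) hcop hsol P0 (by
    intro a ha
    have h3 : a • P0 ≠ Sy h hP := by
      intro h0
      apply hP0
      rw [← hAn a ha] at h0
      exact MulAction.injective a h0
    obtain ⟨x, hx, hx2⟩ := a1 P0 (a • P0) hP0 h3
    exact ⟨x, hx, Sylow.ext (by rw [hsm x P0, hx2])⟩)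
  have hPm : x0 • P0 ≠ Sy h hP := by
    intro h0
    apply hP0
    rw [← hPn x0 hx0] at h0
    exact MulAction.injective x0 h0
  obtain ⟨Pm, hPmdef⟩ : ∃ Pm, Pm = x0 • P0 := ⟨_, rfl⟩
  rw [← hPmdef] at hPm
  obtain ⟨x, y, hx, hxc, hy, hyc, hn1, hn2⟩ := a2 Pm hPm
  obtain ⟨nu, hnu⟩ : ∃ nu, nu = x * y * x := ⟨_, rfl⟩
  rw [← hnu] at hn1 hn2
  have hm1 : nu • Sy h hP = Pm := Sylow.ext (by rw [hsm, hn1])
  have hm2 : nu • Pm = Sy h hP := Sylow.ext (by rw [hsm, hn2])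
  have hyP : nu⁻¹ * y * nu ∈ (Sy h hP : Subgroup (Gt h Γ)) := by
    rw [← hn1] at hy
    obtain ⟨y', hy', hyy⟩ := hy
    have h3 : nu * y' * nu⁻¹ = y := hyy
    rw [← h3]
    have h4 : nu⁻¹ * (nu * y' * nu⁻¹) * nu = y' := by group
    rw [h4]
    exact hy'
  refine ⟨nu, x, ((nu⁻¹ * y * nu : Gt h Γ) : Equiv.Perm (K × K × K)), nu.2, hx, ?_, hyP, ?_, ?_, ?_, ?_, ?_, ?_, ?_⟩
  · intro z hz
    exact congrArg Subtype.val (hxc ⟨z, Pt_le h hP hz⟩ hz)
  · intro z hz
    let z1 : Gt h Γ := ⟨z, Pt_le h hP hz⟩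
    have h3 : nu * z1 * nu⁻¹ ∈ (Pm : Subgroup (Gt h Γ)) := by
      rw [← hn1]
      exact ⟨z1, hz, rfl⟩
    have h4 := hyc _ h3
    have h5 : nu⁻¹ * y * nu * z1 = z1 * (nu⁻¹ * y * nu) := by
      have e1 : nu⁻¹ * y * nu * z1 = nu⁻¹ * (y * (nu * z1 * nu⁻¹)) * nu := by group
      have e2 : z1 * (nu⁻¹ * y * nu) = nu⁻¹ * ((nu * z1 * nu⁻¹) * y) * nu := by group
      rw [e1, e2, h4]
    exact congrArg Subtype.val h5
  · have h3 : nu = x * (nu * (nu⁻¹ * y * nu) * nu⁻¹) * x := by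
      have e1 : nu * (nu⁻¹ * y * nu) * nu⁻¹ = y := by group
      rw [e1, hnu]
    exact congrArg Subtype.val h3
  · intro h0
    apply hPm
    rw [← hm1, hnorm]
    exact h0
  · have h3 : (nu * nu) • Sy h hP = Sy h hP := by rw [mul_smul, hm1, hm2]
    rw [hnorm] at h3
    rw [← Set.image_comp]
    exact h3
  · intro d hd δ hδ
    let a : Gt h Γ := thD h hG hP ⟨d, hd⟩
    have ha : a • Pm = Pm := by
      rw [hPmdef]
      exact hA a ⟨_, rfl⟩
    have h3 : (nu⁻¹ * a * nu) • Sy h hP = Sy h hP := by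
      rw [mul_smul, mul_smul, hm1, ha, ← hm1, inv_smul_smul]
    rw [hnorm] at h3
    have h4 : (a : Equiv.Perm (K × K × K)) = rho h δ := by
      show rho h _ = rho h δ
      congr 1
      refine MulEquiv.ext fun e => Subtype.ext ?_
      rw [hδ e]
      rfl
    rw [← h4]
    have h5 : (nu : Equiv.Perm (K × K × K)) '' ((nu⁻¹ * a * nu : Gt h Γ) '' U0s K) = nu '' U0s K := by rw [h3]
    rw [← Set.image_comp] at h5 ⊢
    rw [← h5]
    congr 1
    ext1 w
    exact ((nu : Equiv.Perm (K × K × K)).apply_symm_apply _).symm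
  · intro g hg hgU
    let g1 : Gt h Γ := ⟨g, hg⟩
    have h3 : g1 • Sy h hP ≠ Sy h hP := fun h0 => hgU ((hnorm g1).1 h0)
    obtain ⟨x', hx', hx2⟩ := a1 Pm (g1 • Sy h hP) hPm h3
    have h4 : x' • Pm = g1 • Sy h hP := Sylow.ext (by rw [hsm x' Pm, hx2])
    let m : Gt h Γ := (x' * nu)⁻¹ * g1
    have h5 : m • Sy h hP = Sy h hP := by
      show ((x' * nu)⁻¹ * g1) • Sy h hP = Sy h hP
      rw [mul_smul, ← h4, ← hm1, ← mul_smul x', inv_smul_smul]
    refine ⟨x', hx', m, m.2, (hnorm m).1 h5, ?_⟩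
    have h6 : g1 = x' * nu * m := by
      show g1 = x' * nu * ((x' * nu)⁻¹ * g1)
      rw [mul_inv_cancel_left]
    exact congrArg Subtype.val h6
  · intro h3
    obtain ⟨g, hg, hgn, hk⟩ := a3 h3
    refine ⟨g, g.2, U0_of_mem_norm h hP hg, ?_, ?_⟩
    · let N : Subgroup (Gt h Γ) :=
        { carrier := {g | ∀ w w', om ((g : Equiv.Perm (K × K × K)) w) ((g : Equiv.Perm (K × K × K)) w') = om w w'}
          one_mem' := fun w w' => rfl
          mul_mem' := by
            intro a b ha hb w w'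
            show om ((a : Equiv.Perm (K × K × K)) ((b : Equiv.Perm (K × K × K)) w))
              ((a : Equiv.Perm (K × K × K)) ((b : Equiv.Perm (K × K × K)) w')) = om w w'
            rw [ha, hb]
          inv_mem' := by
            intro a ha w w'
            have key : ∀ w, (a : Equiv.Perm (K × K × K)) ((a⁻¹ : Gt h Γ).1 w) = w := fun w =>
              (a : Equiv.Perm (K × K × K)).apply_symm_apply w
            have := ha ((a⁻¹ : Gt h Γ).1 w) ((a⁻¹ : Gt h Γ).1 w')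
            rw [key, key] at this
            exact this.symm }
      have hN : N.Normal := by
        constructor
        intro f hf g w w'
        obtain ⟨γ, hγ, hγg⟩ := g.2
        have key : ∀ w, (g : Equiv.Perm (K × K × K)) ((g⁻¹ : Gt h Γ).1 w) = w := fun w =>
          (g : Equiv.Perm (K × K × K)).apply_symm_apply w
        have h4 := om_eq_of h γ (hf ((g⁻¹ : Gt h Γ).1 w) ((g⁻¹ : Gt h Γ).1 w'))
        rw [hγg, key, key] at h4
        exact h4
      have hPN : ((Sy h hP : Subgroup (Gt h Γ)) : Set (Gt h Γ)) ⊆ N := fun x hx => om_Pt h hx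
      exact Subgroup.normalClosure_le_normal hPN hgn
    · intro k hk0 hk8
      obtain ⟨x, hx, y, hy, hxy⟩ := hk k hk0 hk8
      refine ⟨x, hx, y, hy, fun h0 => hxy (Subtype.ext h0)⟩

end

end Cfsg.Agent.H440.PU
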