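import Cfsg.Agent.H440.PU.Heis

/-!
# S5258 (PU-L1a): the image of `Γ` in `Aut(W)` and its Sylow subgroup (helper440)
-/

set_option autoImplicit false

namespace Cfsg.Agent.H440.PU

open Cfsg Cfsg.FusionSystem Cfsg.Agent.H756.PU

universe u v

variable {K : Type u} [Field K] [StarRing K] {p n : ℕ}

theorem cj_mul (x y : UG K) : cj (x * y) = cj x * cj y := by
  refine MulEquiv.ext fun e => Subtype.ext ?_
  rw [MulAut.mul_apply, cj_coe, cj_coe, cj_coe]
  group

theorem cj_one : cj (1 : UG K) = 1 := by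
  refine MulEquiv.ext fun e => Subtype.ext ?_
  rw [cj_coe]
  simp

variable (K) in
/-- `[W, Z(P)] = C_W(P)` -/
def U0s : Set (K × K × K) := {w | w.1 = 0 ∧ w.2.1 = 0}

variable (K) in
/-- `C_W(Z(P))` -/
def U1s : Set (K × K × K) := {w | w.1 = 0}

/-- trivial action on the chain `0 < U₀ < U₁ < W` -/
def ChS (f : Equiv.Perm (K × K × K)) : Prop :=
  (∀ w, (f w).1 = w.1) ∧ (∀ w, w.1 = 0 → (f w).2.1 = w.2.1) ∧ (∀ w, w.1 = 0 → w.2.1 = 0 → f w = w)

omit [Field K] [StarRing K] in
theorem fix_conj (g x : Equiv.Perm (K × K × K)) : {w | (g * x * g⁻¹) w = w} = g '' {w | x w = w} := by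
  ext w
  constructor
  · intro hw
    refine ⟨g.symm w, ?_, g.apply_symm_apply w⟩
    have h1 : g (x (g.symm w)) = w := hw
    show x (g.symm w) = g.symm w
    rw [Equiv.eq_symm_apply, h1]
  · rintro ⟨v, hv, rfl⟩
    show g (x (g.symm (g v))) = g v
    rw [g.symm_apply_apply, hv]

section

variable (h : HypK K p n)

/-- the image of `Γ` -/
noncomputable def Gt (Γ : Subgroup (MulAut (Q1 K))) : Subgroup (Equiv.Perm (K × K × K)) := Γ.map (rho h)

/-- the image of `S` -/
noncomputable def Pt : Subgroup (Equiv.Perm (K × K × K)) := (autInducedBy ⊤ (Q1 K)).map (rho h)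

/-- the isomorphism with the group of pairs -/
noncomputable def phi : PP K →* Equiv.Perm (K × K × K) where
  toFun x := rho h (cj x)
  map_one' := by
    show rho h (cj 1) = 1
    rw [cj_one, map_one]
  map_mul' x y := by
    show rho h (cj (x * y : UG K)) = _
    rw [cj_mul, map_mul]

theorem phi_apply (x : PP K) : phi h x = rho h (cj x) := rfl

theorem phi_injective : Function.Injective (phi h) := by
  intro x y hxy
  have h1 := congrArg (fun f : Equiv.Perm (K × K × K) => f (1, 0, 0)) hxy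
  simp only [phi_apply, rho_cj, mul_one, mul_zero, zero_sub, add_zero, zero_add] at h1
  have h2 : -(x : UG K).u2 = -(y : UG K).u2 := congrArg (fun w : K × K × K => w.2.1) h1
  have h3 : star (x : UG K).c = star (y : UG K).c := congrArg (fun w : K × K × K => w.2.2) h1
  exact PP_ext (neg_injective h2) (star_injective h3)

theorem mem_Pt_iff (f : Equiv.Perm (K × K × K)) : f ∈ Pt h ↔ ∃ x : PP K, f = rho h (cj x) := by
  constructor
  · rintro ⟨α, hα, rfl⟩
    obtain ⟨x, rfl⟩ := (mem_A_iff α).1 hα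
    refine ⟨pp x.u2 x.c x.hc, ?_⟩
    ext1 w
    rw [rho_cj, rho_cj]
    rfl
  · rintro ⟨x, rfl⟩
    exact ⟨cj x, cj_mem _, rfl⟩

theorem phi_range : (phi h).range = Pt h := by
  ext f
  rw [mem_Pt_iff]
  constructor
  · rintro ⟨x, rfl⟩
    exact ⟨x, rfl⟩
  · rintro ⟨x, rfl⟩
    exact ⟨x, rfl⟩

theorem cj_mem_Pt (x : UG K) : rho h (cj x) ∈ Pt h := ⟨cj x, cj_mem x, rfl⟩

theorem Pt_ChS {f : Equiv.Perm (K × K × K)} (hf : f ∈ Pt h) : ChS f := by
  obtain ⟨x, rfl⟩ := (mem_Pt_iff h f).1 hf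
  refine ⟨fun w => ?_, fun w hw => ?_, fun w hw hw' => ?_⟩
  · rw [rho_cj]
  · rw [rho_cj]
    simp [hw]
  · rw [rho_cj]
    refine Prod.ext rfl (Prod.ext ?_ ?_) <;> simp [hw, hw']

section
include h

/-- the kernel of `ρ` consists of `p`-elements -/
theorem pow_of_rho_eq_one {γ : MulAut (Q1 K)} (hγ : rho h γ = 1) : γ ^ p = 1 := by
  have hch := h.char
  have hpr : ∀ e, pr (γ e) = pr e := fun e => by
    rw [← rho_pr h, hγ]
    rfl
  have hz : ∀ (b : K) (hb : b + star b = 0), γ (zz b hb) = zz b hb := by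
    intro b hb
    obtain ⟨c, hc⟩ := exists_diff h hb
    obtain ⟨e, he⟩ := exists_lift h (c, 0, 0)
    obtain ⟨e', he'⟩ := exists_lift h (0, 0, 1)
    have h0 : om (pr e) (pr e') = b := by
      rw [he, he']
      simp only [om, hh, star_one, mul_one, star_zero, mul_zero, add_zero]
      exact hc
    have h1 := mul_eq_zz e e'
    have h2 := congrArg γ h1
    have h3 := mul_eq_zz (γ e) (γ e')
    rw [map_mul, map_mul, map_mul, h3] at h2
    have h4 := mul_right_cancel h2
    have h5 : zz (om (pr e) (pr e')) (om_mem _ _) = zz b hb := by congr 1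
    have h6 : zz (om (pr (γ e)) (pr (γ e'))) (om_mem _ _) = zz b hb := by
      congr 1
      rw [hpr, hpr, h0]
    rw [h5, h6] at h4
    exact h4.symm
  ext1 e
  obtain ⟨a, ha, h1⟩ := eq_zz_mul (hpr e)
  have key : ∀ k : ℕ, (γ ^ k) e = zz a ha ^ k * e := by
    intro k
    induction k with
    | zero => simp
    | succ k ih =>
      rw [pow_succ', MulAut.mul_apply, ih, map_mul, map_pow, hz, h1, ← mul_assoc, ← pow_succ]
  have hk : ∀ k : ℕ, pr (zz a ha ^ k) = 0 ∧ ((zz a ha ^ k : Q1 K) : UG K).a = k * a := by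
    intro k
    induction k with
    | zero => exact ⟨rfl, by rw [pow_zero, Nat.cast_zero, zero_mul]; rfl⟩
    | succ k ih =>
      rw [pow_succ']
      refine ⟨by rw [pr_mul, ih.1, pr_zz, add_zero], ?_⟩
      rw [zz_mul_a, ih.2]
      push_cast
      ring
  rw [key, MulAut.one_apply]
  have h2 : zz a ha ^ p = 1 := by
    apply ext_Q1
    · rw [(hk p).1, pr_one]
    · rw [(hk p).2, CharP.cast_eq_zero K p, zero_mul]
      rfl
  rw [h2, one_mul]

theorem mem_U1s_iff (w : K × K × K) : w ∈ U1s K ↔ ∀ v ∈ U0s K, om w v = 0 := by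
  obtain ⟨x, hx⟩ := exists_not_fixed h
  constructor
  · intro hw v hv
    have h1 : w.1 = 0 := hw
    have h2 : v.1 = 0 := hv.1
    have h3 : v.2.1 = 0 := hv.2
    simp [om, hh, h1, h2, h3]
  · intro hw
    show w.1 = 0
    by_contra h0
    apply hx
    have h1 := hw (0, 0, star (w.1⁻¹ * x)) ⟨rfl, rfl⟩
    simp only [om, hh, star_zero, mul_zero, add_zero, star_star] at h1
    rw [mul_inv_cancel_left₀ h0] at h1
    exact sub_eq_zero.1 h1

theorem mem_U0s_iff (w : K × K × K) : w ∈ U0s K ↔ ∀ v ∈ U1s K, om w v = 0 := by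
  obtain ⟨x, hx⟩ := exists_not_fixed h
  constructor
  · intro hw v hv
    have h1 : w.1 = 0 := hw.1
    have h2 : v.1 = 0 := hv
    have h3 : w.2.1 = 0 := hw.2
    simp [om, hh, h1, h2, h3]
  · intro hw
    refine ⟨(mem_U1s_iff h w).2 fun v hv => hw v hv.1, ?_⟩
    by_contra h0
    apply hx
    have h1 := hw (0, star (w.2.1⁻¹ * x), 0) rfl
    simp only [om, hh, star_zero, mul_zero, add_zero, zero_add, star_star] at h1
    rw [mul_inv_cancel_left₀ h0] at h1
    exact sub_eq_zero.1 h1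

theorem ncard_U0s : (U0s K).ncard = Nat.card K := by
  rw [← Nat.card_coe_set_eq]
  exact Nat.card_congr
    { toFun := fun w => w.1.2.2
      invFun := fun b => ⟨(0, 0, b), rfl, rfl⟩
      left_inv := fun w => Subtype.ext (Prod.ext w.2.1.symm (Prod.ext w.2.2.symm rfl))
      right_inv := fun b => rfl }

theorem ncard_U1s : (U1s K).ncard = Nat.card K * Nat.card K := by
  rw [← Nat.card_coe_set_eq, ← Nat.card_prod]
  exact Nat.card_congr
    { toFun := fun w => w.1.2
      invFun := fun b => ⟨(0, b), rfl⟩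
      left_inv := fun w => Subtype.ext (Prod.ext w.2.symm rfl)
      right_inv := fun b => rfl }

end

variable {Γ : Subgroup (MulAut (Q1 K))}

theorem Gt_add {f : Equiv.Perm (K × K × K)} (hf : f ∈ Gt h Γ) (w w' : K × K × K) : f (w + w') = f w + f w' := by
  obtain ⟨γ, -, rfl⟩ := hf
  exact rho_add h γ w w'

theorem Gt_zero {f : Equiv.Perm (K × K × K)} (hf : f ∈ Gt h Γ) : f 0 = 0 := by
  obtain ⟨γ, -, rfl⟩ := hf
  exact rho_zero h γ

theorem Gt_neg {f : Equiv.Perm (K × K × K)} (hf : f ∈ Gt h Γ) (w : K × K × K) : f (-w) = - f w := by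
  have h1 := Gt_add h hf w (-w)
  rw [add_neg_cancel, Gt_zero h hf] at h1
  exact (neg_eq_of_add_eq_zero_right h1.symm).symm

theorem Gt_sub {f : Equiv.Perm (K × K × K)} (hf : f ∈ Gt h Γ) (w w' : K × K × K) : f (w - w') = f w - f w' := by
  rw [sub_eq_add_neg, Gt_add h hf, Gt_neg h hf, ← sub_eq_add_neg]

theorem Gt_perp {f : Equiv.Perm (K × K × K)} (hf : f ∈ Gt h Γ) (w w' : K × K × K) :
    om (f w) (f w') = 0 ↔ om w w' = 0 := by
  obtain ⟨γ, -, rfl⟩ := hf
  exact perp_iff h γ w w'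

theorem image_U1_of {f : Equiv.Perm (K × K × K)} (hf : f ∈ Gt h Γ) (hU : f '' U0s K = U0s K) : f '' U1s K = U1s K := by
  have key : ∀ w, w ∈ U1s K ↔ f w ∈ U1s K := by
    intro w
    rw [mem_U1s_iff h, mem_U1s_iff h]
    constructor
    · intro hw v hv
      rw [← hU] at hv
      obtain ⟨v', hv', rfl⟩ := hv
      exact (Gt_perp h hf _ _).2 (hw v' hv')
    · intro hw v hv
      rw [← Gt_perp h hf]
      exact hw _ (by rw [← hU]; exact ⟨v, hv, rfl⟩)
  ext w
  constructor
  · rintro ⟨v, hv, rfl⟩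
    exact (key v).1 hv
  · intro hw
    refine ⟨f.symm w, (key _).2 ?_, f.apply_symm_apply w⟩
    rwa [f.apply_symm_apply]

theorem image_U0_of {f : Equiv.Perm (K × K × K)} (hf : f ∈ Gt h Γ) (hU : f '' U1s K = U1s K) : f '' U0s K = U0s K := by
  have key : ∀ w, w ∈ U0s K ↔ f w ∈ U0s K := by
    intro w
    rw [mem_U0s_iff h, mem_U0s_iff h]
    constructor
    · intro hw v hv
      rw [← hU] at hv
      obtain ⟨v', hv', rfl⟩ := hv
      exact (Gt_perp h hf _ _).2 (hw v' hv')
    · intro hw v hv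
      rw [← Gt_perp h hf]
      exact hw _ (by rw [← hU]; exact ⟨v, hv, rfl⟩)
  ext w
  constructor
  · rintro ⟨v, hv, rfl⟩
    exact (key v).1 hv
  · intro hw
    refine ⟨f.symm w, (key _).2 ?_, f.apply_symm_apply w⟩
    rwa [f.apply_symm_apply]

/-- chain stabilizers have order a power of `p` -/
theorem pow_ChS {f : Equiv.Perm (K × K × K)} (hf : f ∈ Gt h Γ) (hc : ChS f) : f ^ p ^ 2 = 1 := by
  have hch := h.char
  obtain ⟨h1, h2, h3⟩ := hc
  have hadd := Gt_add h hf
  have key : ∀ (k : ℕ) (w : K × K × K),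
      (f ^ k) w = w + k • (f w - w) + (k.choose 2) • (f (f w - w) - (f w - w)) := by
    intro k w
    induction k with
    | zero => simp
    | succ k ih =>
      have hns : ∀ (m : ℕ) (v : K × K × K), f (m • v) = m • f v := by
        intro m v
        induction m with
        | zero => rw [zero_smul, zero_smul, Gt_zero h hf]
        | succ m im => rw [succ_nsmul, succ_nsmul, hadd, im]
      have h4 : f (f (f w - w) - (f w - w)) = f (f w - w) - (f w - w) := by
        apply h3
        · rw [Prod.fst_sub, h1, sub_self]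
        · rw [Prod.snd_sub, Prod.fst_sub, h2 _ (by rw [Prod.fst_sub, h1, sub_self]), sub_self]
      rw [pow_succ', Equiv.Perm.mul_apply, ih, hadd, hadd, hns, hns, h4]
      have e1 : f w = w + (f w - w) := by abel
      have e2 : f (f w - w) = (f w - w) + (f (f w - w) - (f w - w)) := by abel
      have e3 : (k + 1).choose 2 = k + k.choose 2 := by
        rw [Nat.choose_succ_succ' k 1, Nat.choose_one_right]
      rw [e3]
      generalize hA : f w - w = A at *
      generalize hB : f A - A = B at *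
      rw [e1, e2, smul_add, add_smul, add_smul, one_smul]
      abel
  have hp2 : ∀ v : K × K × K, (p ^ 2) • v = 0 := by
    intro v
    have h5 : ∀ x : K, (p ^ 2) • x = 0 := fun x => by
      rw [nsmul_eq_mul, Nat.cast_pow, CharP.cast_eq_zero K p]
      ring
    exact Prod.ext (h5 _) (Prod.ext (h5 _) (h5 _))
  have hc2 : ∀ v : K × K × K, ((p ^ 2).choose 2) • v = 0 := by
    intro v
    obtain ⟨m, hm⟩ : p ∣ (p ^ 2).choose 2 := by
      refine h.pp.dvd_choose_pow (by norm_num) ?_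
      have := h.pp.two_le
      have : 2 * 2 ≤ p ^ 2 := by rw [sq]; exact Nat.mul_le_mul this this
      omega
    have h5 : ∀ x : K, ((p ^ 2).choose 2) • x = 0 := fun x => by
      rw [hm, nsmul_eq_mul, Nat.cast_mul, CharP.cast_eq_zero K p]
      ring
    exact Prod.ext (h5 _) (Prod.ext (h5 _) (h5 _))
  ext1 w
  rw [key, hp2, hc2, add_zero, add_zero]
  rfl

section par

variable {D : Subgroup (MulAut (UG K))} (hP : Par p (Q1 K) Γ D)
include hP

theorem Pt_le : Pt h ≤ Gt h Γ := Subgroup.map_mono hP.indu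

/-- the Sylow subgroup -/
noncomputable def Sy : Sylow p (Gt h Γ) where
  toSubgroup := (Pt h).subgroupOf (Gt h Γ)
  isPGroup' := by
    rintro ⟨f, hf⟩
    have hf' : (f : Equiv.Perm (K × K × K)) ∈ Pt h := hf
    refine ⟨2, Subtype.ext (Subtype.ext ?_)⟩
    exact pow_ChS h (Pt_le h hP hf') (Pt_ChS h hf')
  is_maximal' := by
    intro Q hQ hle
    have hfin := h.fin
    let R : Subgroup (MulAut (Q1 K)) := Γ ⊓ (Q.map (Gt h Γ).subtype).comap (rho h)
    have hR : IsPGroup p R := by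
      rintro ⟨γ, hγ⟩
      obtain ⟨hγ1, q, hq, hq2⟩ := hγ
      obtain ⟨k, hk⟩ := hQ ⟨q, hq⟩
      refine ⟨k + 1, Subtype.ext ?_⟩
      have h1 : rho h (γ ^ p ^ k) = 1 := by
        rw [map_pow, ← hq2]
        have := congrArg (fun z : Q => (Gt h Γ).subtype (z : Gt h Γ)) hk
        simpa using this
      have h2 := pow_of_rho_eq_one h h1
      rw [← pow_mul, ← pow_succ] at h2
      exact h2
    obtain ⟨g, hg, hgR⟩ := hP.syl R inf_le_left hR
    have hgG : rho h g ∈ Gt h Γ := ⟨g, hg, rfl⟩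
    symm
    refine Subgroup.eq_of_le_of_card_ge hle ?_
    rw [← Subgroup.card_map_of_injective (f := (MulAut.conj (⟨rho h g, hgG⟩ : Gt h Γ)).toMonoidHom)
      (MulAut.conj _).injective]
    refine Nat.card_le_card_of_injective (Subgroup.inclusion ?_) (Subgroup.inclusion_injective _)
    rintro _ ⟨q, hq, rfl⟩
    obtain ⟨γ, hγ, hγq⟩ := q.2
    have h1 : γ ∈ R := ⟨hγ, q, hq, hγq.symm⟩
    have h2 := hgR γ h1
    show rho h g * (q : Equiv.Perm (K × K × K)) * (rho h g)⁻¹ ∈ Pt h
    refine ⟨g * γ * g⁻¹, h2, ?_⟩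
    rw [map_mul, map_mul, map_inv, hγq]

theorem mem_Sy {g : Gt h Γ} : g ∈ (Sy h hP : Subgroup (Gt h Γ)) ↔ (g : Equiv.Perm (K × K × K)) ∈ Pt h := Iff.rfl

theorem mem_Pt_of_ChS {f : Equiv.Perm (K × K × K)} (hf : f ∈ Gt h Γ) (hc : ChS f) : f ∈ Pt h := by
  have hfin := h.fin
  -- the group of chain stabilizers
  let Q : Subgroup (Gt h Γ) :=
    { carrier := {g | ChS (g : Equiv.Perm (K × K × K))}
      one_mem' := ⟨fun w => rfl, fun w _ => rfl, fun w _ _ => rfl⟩
      mul_mem' := by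
        rintro a b ⟨a1, a2, a3⟩ ⟨b1, b2, b3⟩
        refine ⟨fun w => ?_, fun w hw => ?_, fun w hw hw' => ?_⟩
        · show ((a : Equiv.Perm (K × K × K)) ((b : Equiv.Perm (K × K × K)) w)).1 = w.1
          rw [a1, b1]
        · show ((a : Equiv.Perm (K × K × K)) ((b : Equiv.Perm (K × K × K)) w)).2.1 = w.2.1
          rw [a2 _ (by rw [b1, hw]), b2 _ hw]
        · show (a : Equiv.Perm (K × K × K)) ((b : Equiv.Perm (K × K × K)) w) = w
          rw [b3 w hw hw', a3 w hw hw']
      inv_mem' := by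
        rintro a ⟨a1, a2, a3⟩
        have key : ∀ w, (a : Equiv.Perm (K × K × K)) ((a⁻¹ : Gt h Γ).1 w) = w := fun w =>
          (a : Equiv.Perm (K × K × K)).apply_symm_apply w
        refine ⟨fun w => ?_, fun w hw => ?_, fun w hw hw' => ?_⟩
        · have := a1 ((a⁻¹ : Gt h Γ).1 w)
          rw [key] at this
          exact this.symm
        · have h1 := a1 ((a⁻¹ : Gt h Γ).1 w)
          rw [key] at h1
          have := a2 ((a⁻¹ : Gt h Γ).1 w) (by rw [← h1, hw])
          rw [key] at this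
          exact this.symm
        · have h1 := a3 w hw hw'
          show (a : Equiv.Perm (K × K × K)).symm w = w
          rw [Equiv.symm_apply_eq, h1] }
  have hQ : IsPGroup p Q := by
    rintro ⟨g, hg⟩
    exact ⟨2, Subtype.ext (Subtype.ext (pow_ChS h g.2 hg))⟩
  have hle : (Sy h hP : Subgroup (Gt h Γ)) ≤ Q := fun g hg => Pt_ChS h hg
  have := (Sy h hP).is_maximal' hQ hle
  have hfQ : (⟨f, hf⟩ : Gt h Γ) ∈ Q := hc
  rw [this] at hfQ
  exact hfQ

/-- `g` normalizes `P` as soon as it preserves the chain -/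
theorem conj_mem_of_image {g : Equiv.Perm (K × K × K)} (hg : g ∈ Gt h Γ) (hU0 : g '' U0s K = U0s K)
    (hU1 : g '' U1s K = U1s K) {x : Equiv.Perm (K × K × K)} (hx : x ∈ Pt h) : g * x * g⁻¹ ∈ Pt h := by
  obtain ⟨x1, x2, x3⟩ := Pt_ChS h hx
  have hxG := Pt_le h hP hx
  have e0 : ∀ w, (g * x * g⁻¹) w = g (x (g.symm w)) := fun w => rfl
  have hs1 : ∀ w, w ∈ U1s K → g.symm w ∈ U1s K := by
    intro w hw
    rw [← hU1] at hw
    obtain ⟨v, hv, rfl⟩ := hw
    rwa [g.symm_apply_apply]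
  have hs0 : ∀ w, w ∈ U0s K → g.symm w ∈ U0s K := by
    intro w hw
    rw [← hU0] at hw
    obtain ⟨v, hv, rfl⟩ := hw
    rwa [g.symm_apply_apply]
  have hm1 : ∀ w, w ∈ U1s K → g w ∈ U1s K := fun w hw => by rw [← hU1]; exact ⟨w, hw, rfl⟩
  have hm0 : ∀ w, w ∈ U0s K → g w ∈ U0s K := fun w hw => by rw [← hU0]; exact ⟨w, hw, rfl⟩
  refine mem_Pt_of_ChS h hP (mul_mem (mul_mem hg hxG) (inv_mem hg)) ⟨fun w => ?_, fun w hw => ?_, fun w hw hw' => ?_⟩
  · rw [e0]
    have h1 : x (g.symm w) - g.symm w ∈ U1s K := by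
      show (x (g.symm w) - g.symm w).1 = 0
      rw [Prod.fst_sub, x1, sub_self]
    have h2 : (g (x (g.symm w) - g.symm w)).1 = 0 := hm1 _ h1
    rw [Gt_sub h hg, g.apply_symm_apply, Prod.fst_sub] at h2
    exact sub_eq_zero.1 h2
  · rw [e0]
    have h0 : (g.symm w).1 = 0 := hs1 w hw
    have h1 : x (g.symm w) - g.symm w ∈ U0s K := by
      refine ⟨?_, ?_⟩
      · rw [Prod.fst_sub, x1, sub_self]
      · rw [Prod.snd_sub, Prod.fst_sub, x2 _ h0, sub_self]
    have h2 : (g (x (g.symm w) - g.symm w)).2.1 = 0 := (hm0 _ h1).2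
    rw [Gt_sub h hg, g.apply_symm_apply, Prod.snd_sub, Prod.fst_sub] at h2
    exact sub_eq_zero.1 h2
  · rw [e0]
    have h1 := hs0 w ⟨hw, hw'⟩
    rw [x3 _ h1.1 h1.2, g.apply_symm_apply]

omit hP in
/-- fixed points of the elements of `P` -/
theorem fix_cases {x : Equiv.Perm (K × K × K)} (hx : x ∈ Pt h) (hx1 : x ≠ 1) :
    {w | x w = w} = U0s K ∨ {w | x w = w} = U1s K := by
  obtain ⟨y, rfl⟩ := (mem_Pt_iff h x).1 hx
  by_cases hs : (y : UG K).u2 = 0
  · right
    have hc : (y : UG K).c ≠ 0 := by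
      intro hc
      apply hx1
      ext1 w
      rw [rho_cj, hs, hc]
      simp
    ext w
    simp only [Set.mem_ofPred_eq, rho_cj, hs]
    constructor
    · intro hw
      have h1 := congrArg (fun w : K × K × K => w.2.2) hw
      simp only [star_zero, zero_mul, add_zero] at h1
      have h2 : star (y : UG K).c * w.1 = 0 := add_eq_left.1 h1
      exact (mul_eq_zero.1 h2).resolve_left (star_ne_zero.2 hc)
    · intro hw
      have h0 : w.1 = 0 := hw
      refine Prod.ext rfl (Prod.ext ?_ ?_) <;> simp [h0]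
  · left
    ext w
    simp only [Set.mem_ofPred_eq, rho_cj]
    constructor
    · intro hw
      have h1 := congrArg (fun w : K × K × K => w.2.1) hw
      have h2 := congrArg (fun w : K × K × K => w.2.2) hw
      simp only at h1 h2
      have h3 : w.1 = 0 := by
        have : (y : UG K).u2 * w.1 = 0 := by linear_combination -h1
        exact (mul_eq_zero.1 this).resolve_left hs
      rw [h3, mul_zero, add_zero] at h2
      have h4 : star (y : UG K).u2 * w.2.1 = 0 := add_eq_left.1 h2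
      exact ⟨h3, (mul_eq_zero.1 h4).resolve_left (star_ne_zero.2 hs)⟩
    · rintro ⟨h0, h0'⟩
      refine Prod.ext rfl (Prod.ext ?_ ?_) <;> simp [h0, h0']

/-- TI -/
theorem ti {g : Equiv.Perm (K × K × K)} (hg : g ∈ Gt h Γ) {x : Equiv.Perm (K × K × K)} (hx : x ∈ Pt h)
    (hx1 : x ≠ 1) (hgx : g * x * g⁻¹ ∈ Pt h) : g '' U0s K = U0s K ∧ g '' U1s K = U1s K := by
  have hfin := h.fin
  have hgx1 : g * x * g⁻¹ ≠ 1 := fun h0 => hx1 (conj_eq_one_iff.1 h0)
  have hK : 1 < Nat.card K := by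
    rw [h.card]
    exact Nat.one_lt_pow (by norm_num) (one_lt_q h)
  have hne : Nat.card K ≠ Nat.card K * Nat.card K := by
    intro h0
    have : Nat.card K * 1 < Nat.card K * Nat.card K := Nat.mul_lt_mul_of_pos_left hK (by omega)
    omega
  have h0 := fix_conj g x
  rcases fix_cases h hx hx1 with h1 | h1 <;> rcases fix_cases h hgx hgx1 with h2 | h2 <;>
    rw [h1, h2] at h0
  · exact ⟨h0.symm, image_U1_of h hg h0.symm⟩
  · exfalso
    have h3 := congrArg Set.ncard h0
    rw [Set.ncard_image_of_injective _ g.injective, ncard_U0s h, ncard_U1s h] at h3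
    exact hne h3.symm
  · exfalso
    have h3 := congrArg Set.ncard h0
    rw [Set.ncard_image_of_injective _ g.injective, ncard_U0s h, ncard_U1s h] at h3
    exact hne h3
  · exact ⟨image_U0_of h hg h0.symm, h0.symm⟩

end par

end

end Cfsg.Agent.H440.PU
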