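import Cfsg.Agent.H440.PU.Fld

/-!
# S5258 (PU-L1a): the action of `Aut(Q₁)` on `W = Q₁/Z` (helper440)

`W = K × K × K` with the coordinates `(r, u1, b)`.
-/

set_option autoImplicit false

namespace Cfsg.Agent.H440.PU

open Cfsg Cfsg.FusionSystem Cfsg.Agent.H756.PU

universe u

variable {K : Type u} [Field K] [StarRing K] {p n : ℕ}

/-- `Q₁ → W` -/
def pr (e : Q1 K) : K × K × K := ((e : UG K).r, (e : UG K).u1, (e : UG K).b)

theorem Q1_u2 (e : Q1 K) : (e : UG K).u2 = 0 := e.2.1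
theorem Q1_c (e : Q1 K) : (e : UG K).c = 0 := e.2.2

theorem ext_Q1 {e f : Q1 K} (h : pr e = pr f) (ha : (e : UG K).a = (f : UG K).a) : e = f := by
  have h1 := congrArg Prod.fst h
  have h2 := congrArg (fun w : K × K × K => w.2.1) h
  have h3 := congrArg (fun w : K × K × K => w.2.2) h
  apply Subtype.ext
  refine UG.ext h1 h2 ?_ ha h3 ?_
  · rw [Q1_u2, Q1_u2]
  · rw [Q1_c, Q1_c]

theorem pr_mul (e f : Q1 K) : pr (e * f) = pr e + pr f := by
  unfold pr
  rw [Subgroup.coe_mul, UG.mul_r, UG.mul_u1, UG.mul_b, Q1_u2, Q1_c]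
  simp

theorem pr_one : pr (1 : Q1 K) = 0 := rfl

theorem pr_inv (e : Q1 K) : pr e⁻¹ = - pr e := by
  have h := pr_mul e e⁻¹
  rw [mul_inv_cancel, pr_one] at h
  exact (neg_eq_of_add_eq_zero_right h.symm).symm

/-- the hermitian form -/
def hh (w w' : K × K × K) : K := w.1 * star w'.2.2 + w.2.1 * star w'.2.1 + w.2.2 * star w'.1

/-- the commutator form -/
def om (w w' : K × K × K) : K := star (hh w w') - hh w w'

theorem om_add_left (w v w' : K × K × K) : om (w + v) w' = om w w' + om v w' := by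
  simp only [om, hh, Prod.fst_add, Prod.snd_add, star_add, star_mul', star_star]
  ring

theorem om_add_right (w w' v : K × K × K) : om w (w' + v) = om w w' + om w v := by
  simp only [om, hh, Prod.fst_add, Prod.snd_add, star_add, star_mul', star_star]
  ring

theorem om_swap (w w' : K × K × K) : om w w' = - om w' w := by
  simp only [om, hh, star_add, star_mul', star_star]
  ring

theorem om_mem (w w' : K × K × K) : om w w' + star (om w w') = 0 := by
  simp only [om, star_sub, star_star]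
  ring

theorem a_mul_sub (e f : Q1 K) : (((e * f : Q1 K)) : UG K).a = (((f * e : Q1 K)) : UG K).a + om (pr e) (pr f) := by
  rw [Subgroup.coe_mul, Subgroup.coe_mul, UG.mul_a, UG.mul_a]
  simp only [UG.d, Q1_u2, Q1_c, om, hh, pr, star_add, star_mul', star_star, zero_mul, mul_zero, sub_zero, star_zero]
  ring

/-- the element of `Z` -/
def zz (a : K) (ha : a + star a = 0) : Q1 K :=
  ⟨{ r := 0, u1 := 0, u2 := 0, a := a, b := 0, c := 0, ha := by simpa using ha, hc := by simp }, rfl, rfl⟩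

theorem pr_zz (a : K) (ha : a + star a = 0) : pr (zz a ha) = 0 := rfl

theorem zz_mul_a (a : K) (ha : a + star a = 0) (e : Q1 K) : ((zz a ha * e : Q1 K) : UG K).a = a + (e : UG K).a := by
  rw [Subgroup.coe_mul, UG.mul_a]
  simp [zz]

theorem mul_eq_zz (e f : Q1 K) : e * f = zz (om (pr e) (pr f)) (om_mem _ _) * (f * e) := by
  apply ext_Q1
  · rw [pr_mul, pr_mul, pr_mul, pr_zz, zero_add, add_comm]
  · rw [zz_mul_a, a_mul_sub, add_comm]

theorem eq_zz_mul {e f : Q1 K} (h : pr e = pr f) : ∃ (a : K) (ha : a + star a = 0), e = zz a ha * f := by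
  have h1 := congrArg (fun w : K × K × K => w.2.1) h
  have h1' : (e : UG K).u1 = (f : UG K).u1 := h1
  have h2 := (e : UG K).ha
  have h3 := (f : UG K).ha
  rw [h1'] at h2
  refine ⟨(e : UG K).a - (f : UG K).a, ?_, ?_⟩
  · rw [star_sub]
    linear_combination h2 - h3
  · apply ext_Q1
    · rw [pr_mul, pr_zz, zero_add, h]
    · rw [zz_mul_a]; ring

theorem zz_inj {a b : K} {ha : a + star a = 0} {hb : b + star b = 0} (h : zz a ha = zz b hb) : a = b :=
  congrArg (fun e : Q1 K => (e : UG K).a) h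

theorem zz_comm (a : K) (ha : a + star a = 0) (e : Q1 K) : zz a ha * e = e * zz a ha := by
  have h := mul_eq_zz (zz a ha) e
  have h0 : om (pr (zz a ha)) (pr e) = 0 := by
    rw [pr_zz]
    simp [om, hh]
  have h1 : zz (om (pr (zz a ha)) (pr e)) (om_mem _ _) = 1 := by
    apply ext_Q1
    · rfl
    · exact h0
  rw [h, h1, one_mul]

/-- coordinates of conjugates -/
theorem conj_coord (x e : UG K) (h2 : e.u2 = 0) (hc : e.c = 0) :
    (x * e * x⁻¹).r = e.r ∧ (x * e * x⁻¹).u1 = e.u1 - x.u2 * e.r ∧ (x * e * x⁻¹).u2 = 0 ∧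
      (x * e * x⁻¹).b = e.b + star x.u2 * e.u1 + star x.c * e.r ∧ (x * e * x⁻¹).c = 0 := by
  have h3 := x.hc
  refine ⟨?_, ?_, ?_, ?_, ?_⟩
  · simp only [UG.mul_r, UG.inv_r]; ring
  · simp only [UG.mul_r, UG.mul_u1, UG.inv_u1, UG.inv_u2, h2]; ring
  · simp only [UG.mul_u2, UG.inv_u2, h2]; ring
  · simp only [UG.mul_r, UG.mul_u1, UG.mul_b, UG.inv_b, UG.inv_c, UG.inv_u2, UG.d, h2, hc, star_neg, star_sub, star_mul',
      star_star]
    rw [star_zero]
    ring
  · simp only [UG.mul_u2, UG.mul_c, UG.inv_c, UG.inv_u2, h2, hc, star_neg]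
    rw [star_zero]
    linear_combination h3

theorem conj_mem (x : UG K) (e : Q1 K) : x * (e : UG K) * x⁻¹ ∈ Q1 K := by
  obtain ⟨-, -, h3, -, h5⟩ := conj_coord x e (Q1_u2 e) (Q1_c e)
  exact ⟨h3, h5⟩

/-- conjugation by `x` on `Q₁` -/
def cj (x : UG K) : MulAut (Q1 K) where
  toFun e := ⟨x * e * x⁻¹, conj_mem x e⟩
  invFun e := ⟨x⁻¹ * e * x⁻¹⁻¹, conj_mem x⁻¹ e⟩
  left_inv e := Subtype.ext (by
    show x⁻¹ * (x * (e : UG K) * x⁻¹) * x⁻¹⁻¹ = e
    group)
  right_inv e := Subtype.ext (by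
    show x * (x⁻¹ * (e : UG K) * x⁻¹⁻¹) * x⁻¹ = e
    group)
  map_mul' e f := Subtype.ext (by
    show x * ((e : UG K) * f) * x⁻¹ = (x * e * x⁻¹) * (x * f * x⁻¹)
    group)

theorem cj_coe (x : UG K) (e : Q1 K) : ((cj x e : Q1 K) : UG K) = x * e * x⁻¹ := rfl

theorem mem_A_iff (α : MulAut (Q1 K)) : α ∈ autInducedBy ⊤ (Q1 K) ↔ ∃ x : UG K, α = cj x := by
  rw [H802.mem_autInducedBy_iff]
  constructor
  · rintro ⟨x, -, hx⟩
    exact ⟨x, MulEquiv.ext fun e => Subtype.ext (hx e)⟩
  · rintro ⟨x, rfl⟩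
    exact ⟨x, Subgroup.mem_top x, fun e => rfl⟩

theorem cj_mem (x : UG K) : cj x ∈ autInducedBy ⊤ (Q1 K) := (mem_A_iff _).2 ⟨x, rfl⟩

section

variable (h : HypK K p n)
include h

theorem exists_lift (w : K × K × K) : ∃ e : Q1 K, pr e = w := by
  obtain ⟨a, ha⟩ := exists_trace h (a := -(w.2.1 * star w.2.1)) (by
    rw [star_neg, star_mul', star_star, mul_comm])
  exact ⟨⟨{ r := w.1, u1 := w.2.1, u2 := 0, a := a, b := w.2.2, c := 0, ha := by rw [ha]; ring, hc := by simp },
    rfl, rfl⟩, rfl⟩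

/-- the form is not degenerate -/
theorem om_nondeg {w : K × K × K} (hw : ∀ w', om w w' = 0) : w = 0 := by
  obtain ⟨x, hx⟩ := exists_not_fixed h
  have key : ∀ t : K, (∀ s, star (t * star s) = t * star s) → t = 0 := by
    intro t ht
    by_contra h0
    apply hx
    have h1 := ht (star (t⁻¹ * x))
    rwa [star_star, mul_inv_cancel_left₀ h0] at h1
  have h1 : w.1 = 0 := key _ fun s => by
    have := hw (0, 0, s)
    simp only [om, hh, star_zero, mul_zero, add_zero] at this
    exact sub_eq_zero.1 this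
  have h2 : w.2.1 = 0 := key _ fun s => by
    have := hw (0, s, 0)
    simp only [om, hh, star_zero, mul_zero, add_zero, zero_add] at this
    exact sub_eq_zero.1 this
  have h3 : w.2.2 = 0 := key _ fun s => by
    have := hw (s, 0, 0)
    simp only [om, hh, star_zero, mul_zero, zero_add] at this
    exact sub_eq_zero.1 this
  exact Prod.ext h1 (Prod.ext h2 h3)

/-- `Z` is the centre of `Q₁` -/
theorem pr_map_zero (γ : MulAut (Q1 K)) {e : Q1 K} (he : pr e = 0) : pr (γ e) = 0 := by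
  apply om_nondeg h
  intro w'
  obtain ⟨f, rfl⟩ := exists_lift h w'
  obtain ⟨a, ha, h1⟩ := eq_zz_mul (e := e) (f := 1) (by rw [he, pr_one])
  rw [mul_one] at h1
  have h2 : γ e * f = f * γ e := by
    have h3 := congrArg γ (zz_comm a ha (γ.symm f))
    rw [map_mul, map_mul, MulEquiv.apply_symm_apply, ← h1] at h3
    exact h3
  have h4 := a_mul_sub (γ e) f
  rw [h2] at h4
  exact (left_eq_add.1 h4)

theorem pr_congr (γ : MulAut (Q1 K)) {e f : Q1 K} (he : pr e = pr f) : pr (γ e) = pr (γ f) := by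
  obtain ⟨a, ha, h1⟩ := eq_zz_mul he
  rw [h1, map_mul, pr_mul, pr_map_zero h γ (pr_zz a ha), zero_add]

/-- a lift -/
noncomputable def lift (w : K × K × K) : Q1 K := (exists_lift h w).choose

theorem pr_lift (w : K × K × K) : pr (lift h w) = w := (exists_lift h w).choose_spec

/-- **the action on `W`** -/
noncomputable def rho : MulAut (Q1 K) →* Equiv.Perm (K × K × K) where
  toFun γ :=
    { toFun := fun w => pr (γ (lift h w))
      invFun := fun w => pr (γ.symm (lift h w))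
      left_inv := fun w => by
        show pr (γ.symm (lift h (pr (γ (lift h w))))) = w
        rw [pr_congr h γ.symm (pr_lift h _), MulEquiv.symm_apply_apply, pr_lift]
      right_inv := fun w => by
        show pr (γ (lift h (pr (γ.symm (lift h w))))) = w
        rw [pr_congr h γ (pr_lift h _), MulEquiv.apply_symm_apply, pr_lift] }
  map_one' := by
    ext1 w
    exact pr_lift h w
  map_mul' γ δ := by
    ext1 w
    show pr (γ (δ (lift h w))) = pr (γ (lift h (pr (δ (lift h w)))))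
    exact pr_congr h γ (pr_lift h _).symm

theorem rho_add (γ : MulAut (Q1 K)) (w w' : K × K × K) : rho h γ (w + w') = rho h γ w + rho h γ w' := by
  show pr (γ (lift h (w + w'))) = pr (γ (lift h w)) + pr (γ (lift h w'))
  rw [← pr_mul, ← map_mul]
  apply pr_congr h
  rw [pr_mul, pr_lift, pr_lift, pr_lift]

theorem rho_zero (γ : MulAut (Q1 K)) : rho h γ 0 = 0 := by
  have h1 := rho_add h γ 0 0
  rw [add_zero] at h1
  exact (left_eq_add.1 h1)

theorem rho_pr (γ : MulAut (Q1 K)) (e : Q1 K) : rho h γ (pr e) = pr (γ e) := pr_congr h γ (pr_lift h _)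

theorem rho_apply (γ : MulAut (Q1 K)) (w : K × K × K) : rho h γ w = pr (γ (lift h w)) := rfl

theorem rho_ext {γ δ : MulAut (Q1 K)} (hγ : ∀ e, pr (γ e) = pr (δ e)) : rho h γ = rho h δ := by
  ext1 w
  exact hγ _

theorem pr_of_rho {γ δ : MulAut (Q1 K)} (hγ : rho h γ = rho h δ) (e : Q1 K) : pr (γ e) = pr (δ e) := by
  rw [← rho_pr h, hγ, rho_pr h]

/-- the form is preserved up to an automorphism of `Z` -/
theorem om_eq_of (γ : MulAut (Q1 K)) {w w' v v' : K × K × K} (hw : om w w' = om v v') :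
    om (rho h γ w) (rho h γ w') = om (rho h γ v) (rho h γ v') := by
  obtain ⟨e, rfl⟩ := exists_lift h w
  obtain ⟨e', rfl⟩ := exists_lift h w'
  obtain ⟨f, rfl⟩ := exists_lift h v
  obtain ⟨f', rfl⟩ := exists_lift h v'
  rw [rho_pr, rho_pr, rho_pr, rho_pr]
  have h1 := congrArg γ (mul_eq_zz e e')
  have h2 := congrArg γ (mul_eq_zz f f')
  rw [map_mul, map_mul, map_mul, mul_eq_zz (γ e) (γ e')] at h1
  rw [map_mul, map_mul, map_mul, mul_eq_zz (γ f) (γ f')] at h2
  have h3 := mul_right_cancel h1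
  have h4 := mul_right_cancel h2
  have h5 : zz (om (pr e) (pr e')) (om_mem _ _) = zz (om (pr f) (pr f')) (om_mem _ _) := by
    congr 1
  rw [h5, ← h4] at h3
  exact zz_inj h3

/-- orthogonality is preserved -/
theorem perp_iff (γ : MulAut (Q1 K)) (w w' : K × K × K) : om (rho h γ w) (rho h γ w') = 0 ↔ om w w' = 0 := by
  have h0 : ∀ v : K × K × K, om 0 v = 0 := fun v => by simp [om, hh]
  constructor
  · intro h1
    have h2 : om (rho h γ w) (rho h γ w') = om 0 0 := by rw [h1, h0]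
    have h3 := om_eq_of h γ⁻¹ h2
    have e1 : ∀ v, rho h γ⁻¹ (rho h γ v) = v := fun v => by
      rw [map_inv]
      exact (rho h γ).symm_apply_apply v
    rwa [rho_zero, h0, e1, e1] at h3
  · intro h1
    have h2 : om w w' = om 0 0 := by rw [h1, h0]
    have h3 := om_eq_of h γ h2
    rwa [rho_zero, h0] at h3

/-- the action of `S` on `W` -/
theorem rho_cj (x : UG K) (w : K × K × K) :
    rho h (cj x) w = (w.1, w.2.1 - x.u2 * w.1, w.2.2 + star x.u2 * w.2.1 + star x.c * w.1) := by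
  obtain ⟨e, rfl⟩ := exists_lift h w
  rw [rho_pr]
  obtain ⟨h1, h2, -, h4, -⟩ := conj_coord x e (Q1_u2 e) (Q1_c e)
  unfold pr
  rw [cj_coe, h1, h2, h4]

end

end Cfsg.Agent.H440.PU
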